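import Groth.Agent.SubmEtLib.Glue

/-! Gluing étale quotients of stable opens along a universally submersive morphism. -/

set_option autoImplicit false
set_option linter.style.haveILetI false
set_option backward.isDefEq.respectTransparency false

universe u
open CategoryTheory CategoryTheory.Limits AlgebraicGeometry

noncomputable section

namespace Groth.Agent.QFinEtDesc

open Groth.Agent.SchDesc Groth.Agent.SubmEtLib

variable {X S : Scheme.{u}} {p : X ⟶ S} {D : _root_.Desc.SchDD p}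

theorem isQuotientMap_π (hp : SGA1.UnivSubmersive p) {W : D.obj.left.Opens} (Q : Quot D W) :
    Topology.IsQuotientMap Q.π.base :=
  hp _ _ _ Q.isPullback.flip

theorem isOpen_image (hp : SGA1.UnivSubmersive p) {W O : D.obj.left.Opens} (Q : Quot D W) (hO : Stable D O) :
    IsOpen (Q.π '' (W.ι ⁻¹' O)) ∧ Q.π ⁻¹' (Q.π '' (W.ι ⁻¹' O)) = W.ι ⁻¹' O := by
  have h2 : Q.π ⁻¹' (Q.π '' (W.ι ⁻¹' O)) = W.ι ⁻¹' O :=
    Set.Subset.antisymm (fun w ⟨w', hw', e⟩ => Q.mem_iff_of_π_eq hO e hw') (Set.subset_preimage_image _ _)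
  exact ⟨(isQuotientMap_π hp Q).isOpen_preimage.mp (by
    show IsOpen (Q.π ⁻¹' (Q.π '' (W.ι ⁻¹' O)))
    rw [h2]; exact O.isOpen.preimage W.ι.continuous), h2⟩

/-- Restriction of a quotient to a smaller stable open. -/
theorem restrict (hp : SGA1.UnivSubmersive p) {W O : D.obj.left.Opens} (Q : Quot D W) (hle : O ≤ W) (hO : Stable D O) :
    ∃ Q' : Quot D O, ∃ i : Q'.U ⟶ Q.U, IsOpenImmersion i ∧ Q'.π ≫ i = D.obj.left.homOfLE hle ≫ Q.π ∧
      i ≫ Q.str = Q'.str ∧ Set.range i = Q.π '' (W.ι ⁻¹' O) := by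
  obtain ⟨hopen, hpre⟩ := isOpen_image hp Q hO
  let U' : Q.U.Opens := ⟨_, hopen⟩
  let incl := D.obj.left.homOfLE hle
  have hincl : incl ≫ W.ι = O.ι := D.obj.left.homOfLE_ι hle
  have hmem : ∀ z, Q.π (incl z) ∈ U' := fun z => ⟨incl z, by
    show W.ι (incl z) ∈ O
    rw [← Scheme.Hom.comp_apply, hincl]; exact z.2, rfl⟩
  let π' : (O : Scheme.{u}) ⟶ (U' : Scheme.{u}) := IsOpenImmersion.lift U'.ι (incl ≫ Q.π) (by
    rintro _ ⟨z, rfl⟩
    rw [Scheme.Opens.range_ι]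
    exact hmem z)
  have hπ' : π' ≫ U'.ι = incl ≫ Q.π := IsOpenImmersion.lift_fac _ _ _
  have hsq : IsPullback π' incl U'.ι Q.π := by
    refine IsOpenImmersion.isPullback _ _ _ _ hπ'.symm ?_
    rw [Scheme.Opens.opensRange_ι]
    refine TopologicalSpace.Opens.ext (Set.ext fun w => ⟨fun hw => ?_, ?_⟩)
    · have hw' : w ∈ W.ι ⁻¹' O := hpre ▸ hw
      exact ⟨⟨W.ι w, hw'⟩, W.ι.isOpenEmbedding.injective (by
        rw [← Scheme.Hom.comp_apply, hincl]; rfl)⟩
    · rintro ⟨z, rfl⟩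
      exact hmem z
  refine ⟨⟨_, U'.ι ≫ Q.str, π', ?_, hO, fun t t' x h e => ?_⟩, U'.ι, inferInstance, hπ', rfl, Scheme.Opens.range_ι _⟩
  · have := hsq.flip.paste_horiz Q.isPullback
    rwa [← Category.assoc, hincl] at this
  · rw [← cancel_mono U'.ι, Category.assoc, Category.assoc, hπ', ← Category.assoc, ← Category.assoc]
    refine Q.inv (t ≫ incl) (t' ≫ incl) x (by simpa only [Category.assoc, reassoc_of% hincl] using h) ?_
    simpa only [Category.assoc, hincl] using e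

theorem qmap_isOpenImmersion (hp : SGA1.UnivSubmersive p) {O W : D.obj.left.Opens} (Q : Quot D O) (Q' : Quot D W)
    [Etale Q.str] [Etale Q'.str] (h : O ≤ W) :
    IsOpenImmersion (qmap hp Q Q' h) ∧ Set.range (qmap hp Q Q' h) = Q'.π '' (W.ι ⁻¹' O) := by
  obtain ⟨Q₀, i, hi, hi₁, hi₂, hi₃⟩ := restrict hp Q' h Q.stable
  haveI : Etale Q₀.str := by rw [← hi₂]; infer_instance
  haveI : IsIso (qmap hp Q Q₀ le_rfl) :=
    ⟨qmap hp Q₀ Q le_rfl, by rw [qmap_qmap, qmap_self], by rw [qmap_qmap, qmap_self]⟩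
  have e : qmap hp Q Q' h = qmap hp Q Q₀ le_rfl ≫ i :=
    qmap_eq hp Q Q' _ _ (by rw [← Category.assoc, π_qmap, Scheme.homOfLE_rfl, Category.id_comp, hi₁])
      (by rw [Category.assoc, hi₂, qmap_str])
  rw [e]
  refine ⟨inferInstance, ?_⟩
  rw [← hi₃]
  refine Set.Subset.antisymm (fun _ ⟨z, hz⟩ => ⟨qmap hp Q Q₀ le_rfl z, hz⟩) fun _ ⟨z, hz⟩ => ?_
  obtain ⟨z', rfl⟩ := (qmap hp Q Q₀ le_rfl).surjective z
  exact ⟨z', hz⟩

/-- A stable open with an étale quotient. -/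
structure StPiece (D : _root_.Desc.SchDD p) : Type u where
  W : D.obj.left.Opens
  good : ∃ Q : Quot D W, Etale Q.str

instance : Preorder (StPiece D) := Preorder.lift StPiece.W

/-- A chosen étale quotient. -/
def StPiece.quot (α : StPiece D) : Quot D α.W := α.good.choose

instance (α : StPiece D) : Etale α.quot.str := α.good.choose_spec

variable (D) in
/-- The diagram of étale quotients. -/
def stPieceFunctor (hp : SGA1.UnivSubmersive p) : StPiece D ⥤ Scheme.{u} where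
  obj α := α.quot.U
  map {α β} h := qmap hp α.quot β.quot (leOfHom h)
  map_id α := qmap_self hp α.quot
  map_comp {α β γ} f g := (qmap_qmap hp α.quot β.quot γ.quot _ _).symm

instance (hp : SGA1.UnivSubmersive p) {α β : StPiece D} (f : α ⟶ β) :
    IsOpenImmersion ((stPieceFunctor D hp).map f) :=
  (qmap_isOpenImmersion hp α.quot β.quot (leOfHom f)).1

theorem surjective_π (hp : SGA1.UnivSubmersive p) {W : D.obj.left.Opens} (Q : Quot D W) : Surjective Q.π :=
  haveI := surjective_of_univSubmersive hp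
  MorphismProperty.of_isPullback (P := @Surjective) Q.isPullback inferInstance

theorem exists_meet (hp : SGA1.UnivSubmersive p) (j k : StPiece D) :
    ∃ m : StPiece D, m.W = j.W ⊓ k.W ∧ m ≤ j ∧ m ≤ k := by
  obtain ⟨Q, i, hi, -, hi₂, -⟩ := restrict hp j.quot (inf_le_left : j.W ⊓ k.W ≤ j.W) (Stable.inf D j.quot.stable k.quot.stable)
  exact ⟨⟨j.W ⊓ k.W, Q, by rw [← hi₂]; infer_instance⟩, rfl, (inf_le_left : j.W ⊓ k.W ≤ j.W),
    (inf_le_right : j.W ⊓ k.W ≤ k.W)⟩

instance (hp : SGA1.UnivSubmersive p) : (stPieceFunctor D hp ⋙ Scheme.forget).IsLocallyDirected := ⟨by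
  intro j k l fj fk (x : ↥j.quot.U) (y : ↥k.quot.U) hxy
  change qmap hp j.quot l.quot (leOfHom fj) x = qmap hp k.quot l.quot (leOfHom fk) y at hxy
  obtain ⟨m, hm, hmj, hmk⟩ := exists_meet hp j k
  have hx : x ∈ Set.range (qmap hp m.quot j.quot hmj) := by
    rw [(qmap_isOpenImmersion hp m.quot j.quot hmj).2]
    haveI := surjective_π hp j.quot
    haveI := surjective_π hp k.quot
    obtain ⟨wj, rfl⟩ := j.quot.π.surjective x
    obtain ⟨wk, rfl⟩ := k.quot.π.surjective y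
    rw [qmap_apply, qmap_apply] at hxy
    refine ⟨wj, ?_, rfl⟩
    show j.W.ι wj ∈ m.W
    rw [hm]
    refine ⟨wj.2, ?_⟩
    have e1 : l.W.ι (D.obj.left.homOfLE (show j.W ≤ l.W from leOfHom fj) wj) = j.W.ι wj := by
      rw [← Scheme.Hom.comp_apply, Scheme.homOfLE_ι]
    have e2 : l.W.ι (D.obj.left.homOfLE (show k.W ≤ l.W from leOfHom fk) wk) = k.W.ι wk := by
      rw [← Scheme.Hom.comp_apply, Scheme.homOfLE_ι]
    have := l.quot.mem_iff_of_π_eq k.quot.stable hxy.symm (by rw [e2]; exact wk.2)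
    rwa [e1] at this
  obtain ⟨z, hz⟩ := hx
  refine ⟨m, homOfLE hmj, homOfLE hmk, z, hz, ?_⟩
  show qmap hp m.quot k.quot hmk z = y
  haveI := (qmap_isOpenImmersion hp k.quot l.quot (leOfHom fk)).1
  apply (qmap hp k.quot l.quot (leOfHom fk)).isOpenEmbedding.injective
  rw [← hxy, ← hz, ← Scheme.Hom.comp_apply, ← Scheme.Hom.comp_apply, qmap_qmap, qmap_qmap]⟩

/-- Étale quotients of a covering family of stable opens glue. -/
theorem quot_top_of_cover (hp : SGA1.UnivSubmersive p)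
    (h : ∀ v : D.obj.left, ∃ W : D.obj.left.Opens, v ∈ W ∧ ∃ Q : Quot D W, Etale Q.str) :
    ∃ Q : Quot D ⊤, Etale Q.str := by
  let F := stPieceFunctor D hp
  let U := colimit F
  let ι : ∀ α : StPiece D, α.quot.U ⟶ U := fun α => colimit.ι F α
  have hι : ∀ {α β : StPiece D} (h : α ≤ β), qmap hp α.quot β.quot h ≫ ι β = ι α :=
    fun {α β} h => colimit.w F (homOfLE h)
  let str : U ⟶ S := colimit.desc F
    { pt := S
      ι := { app := fun α => α.quot.str
             naturality := fun α β f => (qmap_str hp α.quot β.quot _).trans (Category.comp_id _).symm } }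
  haveI hιo : ∀ α, IsOpenImmersion (ι α) := fun α => inferInstanceAs (IsOpenImmersion (colimit.ι F α))
  have hstr : ∀ α, ι α ≫ str = α.quot.str := fun α => colimit.ι_desc _ α
  haveI : Etale str := by
    rw [IsZariskiLocalAtSource.iff_of_openCover (P := @Etale) (Scheme.IsLocallyDirected.openCover F)]
    intro α
    show Etale (ι α ≫ str)
    rw [hstr]
    infer_instance
  let 𝒲 : D.obj.left.OpenCover := D.obj.left.openCoverOfIsOpenCover (fun α : StPiece D => α.W)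
    (top_le_iff.mp fun v _ => by
      obtain ⟨W, hv, hW⟩ := h v
      exact TopologicalSpace.Opens.mem_iSup.mpr ⟨⟨W, hW⟩, hv⟩)
  have hinter : ∀ (α β : StPiece D) {T : Scheme.{u}} (a : T ⟶ (α.W : Scheme.{u}))
      (b : T ⟶ (β.W : Scheme.{u})), a ≫ α.W.ι = b ≫ β.W.ι →
      a ≫ α.quot.π ≫ ι α = b ≫ β.quot.π ≫ ι β := by
    intro α β T a b hab
    obtain ⟨γ, hγ, hγα, hγβ⟩ := exists_meet hp α β
    let c : T ⟶ (γ.W : Scheme.{u}) := IsOpenImmersion.lift γ.W.ι (a ≫ α.W.ι) (by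
      rintro _ ⟨z, rfl⟩
      rw [Scheme.Opens.range_ι, hγ]
      refine ⟨?_, ?_⟩
      · rw [Scheme.Hom.comp_apply]; exact (a z).2
      · rw [hab, Scheme.Hom.comp_apply]; exact (b z).2)
    have hc : c ≫ γ.W.ι = a ≫ α.W.ι := IsOpenImmersion.lift_fac _ _ _
    have e1 : c ≫ D.obj.left.homOfLE (show γ.W ≤ α.W from hγα) = a := by
      rw [← cancel_mono α.W.ι, Category.assoc, Scheme.homOfLE_ι, hc]
    have e2 : c ≫ D.obj.left.homOfLE (show γ.W ≤ β.W from hγβ) = b := by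
      rw [← cancel_mono β.W.ι, Category.assoc, Scheme.homOfLE_ι, hc, hab]
    rw [← e1, ← e2, Category.assoc, Category.assoc,
      ← reassoc_of% (π_qmap hp γ.quot α.quot hγα),
      ← reassoc_of% (π_qmap hp γ.quot β.quot hγβ), hι hγα, hι hγβ]
  let π₀ : D.obj.left ⟶ U := 𝒲.glueMorphisms (fun α => α.quot.π ≫ ι α)
    (fun α β => hinter α β _ _ pullback.condition)
  have hπ₀ : ∀ α : StPiece D, α.W.ι ≫ π₀ = α.quot.π ≫ ι α := fun α => Scheme.Cover.ι_glueMorphisms 𝒲 _ _ α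
  have hw : D.obj.hom ≫ p = π₀ ≫ str := 𝒲.hom_ext _ _ fun (α : StPiece D) => by
    show α.W.ι ≫ D.obj.hom ≫ p = α.W.ι ≫ π₀ ≫ str
    rw [reassoc_of% (hπ₀ α), hstr, ← α.quot.isPullback.w, Category.assoc]
  have hsat : ∀ (α : StPiece D) (v : D.obj.left), π₀ v ∈ Set.range (ι α) → v ∈ α.W := by
    intro α v ⟨x, hx⟩
    obtain ⟨W, hv, hW⟩ := h v
    let β : StPiece D := ⟨W, hW⟩
    have hβ : π₀ v = ι β (β.quot.π ⟨v, hv⟩) := by
      rw [← Scheme.Hom.comp_apply, ← hπ₀, Scheme.Hom.comp_apply]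
      rfl
    obtain ⟨i, fi, fj, z, hzi, hzj⟩ := (Scheme.IsLocallyDirected.ι_eq_ι_iff (F := F) (i := α) (j := β) (xi := x) (xj := β.quot.π ⟨v, hv⟩)).mp
      (hx.trans hβ)
    haveI := surjective_π hp i.quot
    obtain ⟨w, rfl⟩ := i.quot.π.surjective z
    change qmap hp i.quot β.quot (leOfHom fj) (i.quot.π w) = β.quot.π ⟨v, hv⟩ at hzj
    rw [qmap_apply] at hzj
    have e1 : β.W.ι (D.obj.left.homOfLE (show i.W ≤ β.W from leOfHom fj) w) = i.W.ι w := by
      rw [← Scheme.Hom.comp_apply, Scheme.homOfLE_ι]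
    exact β.quot.mem_iff_of_π_eq α.quot.stable hzj (by rw [e1]; exact leOfHom fi w.2)
  have hpb : IsPullback π₀ D.obj.hom str p := by
    refine Scheme.isPullback_of_openCover _ _ _ _ (Scheme.IsLocallyDirected.openCover F)
      fun (α : StPiece D) => ?_
    have hsq : IsPullback α.W.ι α.quot.π π₀ (ι α) := by
      refine IsPullback.flip (IsOpenImmersion.isPullback α.quot.π α.W.ι (ι α) π₀ (hπ₀ α) ?_)
      refine TopologicalSpace.Opens.ext (Set.ext fun v => ⟨fun hv => ?_, fun hv => ?_⟩)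
      · exact ⟨⟨v, hsat α v hv⟩, rfl⟩
      · obtain ⟨w, rfl⟩ := hv
        refine ⟨α.quot.π w, ?_⟩
        rw [← Scheme.Hom.comp_apply, ← hπ₀, Scheme.Hom.comp_apply]
    have h2 := α.quot.isPullback.flip
    rw [← hstr α] at h2
    exact h2.of_iso hsq.isoPullback (Iso.refl _) (Iso.refl _) (Iso.refl _)
      (by simp only [Iso.refl_hom, Category.comp_id]; exact hsq.isoPullback_hom_snd.symm)
      (by simp only [Iso.refl_hom, Category.comp_id]
          exact (congrArg (· ≫ D.obj.hom) hsq.isoPullback_hom_fst.symm).trans (Category.assoc _ _ _))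
      (by simp only [Iso.refl_hom, Category.comp_id, Category.id_comp]; rfl) (by simp)
  refine ⟨{ U := U
            str := str
            π := (⊤ : D.obj.left.Opens).ι ≫ π₀
            isPullback := hpb.flip.of_iso (Scheme.topIso D.obj.left).symm (Iso.refl _) (Iso.refl _) (Iso.refl _)
              (by simp [← Scheme.topIso_hom]) (by simp [← Scheme.topIso_hom]) (by simp) (by simp)
            stable := stable_top
            inv := fun {T} t t' x hx e => ?_ }, (inferInstance : Etale str)⟩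
  rw [← Category.assoc, ← Category.assoc]
  let 𝒯 : T.OpenCover := T.openCoverOfIsOpenCover
    (fun α : StPiece D => (t ≫ (⊤ : D.obj.left.Opens).ι) ⁻¹ᵁ α.W)
    (top_le_iff.mp fun z _ => by
      obtain ⟨W, hz, hW⟩ := h ((t ≫ (⊤ : D.obj.left.Opens).ι) z)
      exact TopologicalSpace.Opens.mem_iSup.mpr ⟨⟨W, hW⟩, hz⟩)
  refine 𝒯.hom_ext _ _ fun (α : StPiece D) => ?_
  let O := (t ≫ (⊤ : D.obj.left.Opens).ι) ⁻¹ᵁ α.W
  show O.ι ≫ (t ≫ (⊤ : D.obj.left.Opens).ι) ≫ π₀ = O.ι ≫ (t' ≫ (⊤ : D.obj.left.Opens).ι) ≫ π₀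
  let a : (O : Scheme.{u}) ⟶ (α.W : Scheme.{u}) := (t ≫ (⊤ : D.obj.left.Opens).ι) ∣_ α.W
  have ha : a ≫ α.W.ι = O.ι ≫ t ≫ (⊤ : D.obj.left.Opens).ι := morphismRestrict_ι _ _
  have hx' : (a ≫ α.W.ι) ≫ D.obj.hom ≫ p = (O.ι ≫ x) ≫ p := by
    rw [ha]; simp only [Category.assoc] at hx ⊢; rw [hx]
  obtain ⟨b, hb⟩ := α.quot.stable.exists_lift a (O.ι ≫ x) hx'
  have hb' : b ≫ α.W.ι = O.ι ≫ t' ≫ (⊤ : D.obj.left.Opens).ι := by
    rw [hb, ← e, move_comp]
    exact move_congr D ha _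
  rw [← Category.assoc, ← Category.assoc O.ι (t' ≫ _), ← ha, ← hb', Category.assoc, Category.assoc,
    hπ₀, ← Category.assoc, ← Category.assoc b, α.quot.inv a b _ hx' hb.symm]

end Groth.Agent.QFinEtDesc
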