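import Groth.Agent.QFinEtDesc.Refine
import Groth.Agent.SubmEtSpread.Effective

/-! Passing between quotients over a change of base and quotients of pulled back data. -/

set_option autoImplicit false
set_option linter.style.haveILetI false
set_option backward.isDefEq.respectTransparency false
set_option backward.isDefEq.respectTransparency.types false

universe u
open CategoryTheory CategoryTheory.Limits AlgebraicGeometry

noncomputable section

namespace Groth.Agent.QFinEtDesc

open Groth.Agent.SchDesc Groth.Agent.SubmEtSpread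
open _root_.Desc (SchDD SchDDFam)

variable {X S T P : Scheme.{u}} {p : X ⟶ S} {D : SchDD p} {r : T ⟶ P} {D' : SchDD r}

/-- A quotient over an open of a change of base gives a quotient of the part of the pulled back datum over it. -/
theorem quot_of_isQuot_over {q : T ⟶ X} {s : P ⟶ S} (w : q ≫ p = r ≫ s)
    (ε : D'.obj.left ⟶ D.obj.left) (hε : IsPullback ε D'.obj.hom D.obj.hom q)
    (hmove : ∀ {R : Scheme.{u}} (v : R ⟶ D'.obj.left) (x : R ⟶ T) (h : v ≫ D'.obj.hom ≫ r = x ≫ r)
      (h' : (v ≫ ε) ≫ D.obj.hom ≫ p = (x ≫ q) ≫ p), move D' v x h ≫ ε = move D (v ≫ ε) (x ≫ q) h')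
    (O : P.Opens) {U : Scheme.{u}} {str : U ⟶ (O : Scheme.{u})} {π : pullback (dHom D) (O.ι ≫ s) ⟶ U}
    (hQ : IsQuot D (O.ι ≫ s) str π) [Etale str] :
    ∃ Q : Quot D' ((D'.obj.hom ≫ r) ⁻¹ᵁ O), Etale Q.str := by
  let W := (D'.obj.hom ≫ r) ⁻¹ᵁ O
  let ro := (D'.obj.hom ≫ r) ∣_ O
  have hro : ro ≫ O.ι = W.ι ≫ D'.obj.hom ≫ r := morphismRestrict_ι _ _
  let m : (W : Scheme.{u}) ⟶ pullback (dHom D) (O.ι ≫ s) := pullback.lift (W.ι ≫ ε) ro (by
    simp only [dHom, Category.assoc, reassoc_of% hro, hε.w_assoc, w])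
  have hm1 : m ≫ pullback.fst _ _ = W.ι ≫ ε := pullback.lift_fst _ _ _
  have hm2 : m ≫ pullback.snd _ _ = ro := pullback.lift_snd _ _ _
  have hπs : (m ≫ π) ≫ str ≫ O.ι = W.ι ≫ D'.obj.hom ≫ r := by
    rw [Category.assoc, ← Category.assoc π, hQ.fac, ← Category.assoc, hm2, hro]
  refine ⟨⟨U, str ≫ O.ι, m ≫ π, ?_, fun t ht => ?_, fun t t' x hx he => ?_⟩, inferInstance⟩
  · have hd : ∀ {Z : Scheme.{u}} (a : Z ⟶ T) (b : Z ⟶ U), a ≫ r = b ≫ str ≫ O.ι →
        ∃ c : Z ⟶ (W : Scheme.{u}), c ≫ W.ι ≫ D'.obj.hom = a ∧ c ≫ m ≫ π = b := fun {Z} a b hab => by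
      let d : Z ⟶ pullback (dHom D) (O.ι ≫ s) := hQ.isPullback.lift b (a ≫ q) (by
        rw [Category.assoc, w, reassoc_of% hab])
      have hd1 : d ≫ π = b := hQ.isPullback.lift_fst _ _ _
      have hd2 : d ≫ pullback.fst _ _ ≫ D.obj.hom = a ≫ q := hQ.isPullback.lift_snd _ _ _
      let v : Z ⟶ D'.obj.left := hε.lift (d ≫ pullback.fst _ _) a (by rw [Category.assoc, hd2])
      have hv : v ≫ D'.obj.hom = a := hε.lift_snd _ _ _
      let c : Z ⟶ (W : Scheme.{u}) := IsOpenImmersion.lift W.ι v (by
        rintro _ ⟨z, rfl⟩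
        rw [Scheme.Opens.range_ι]
        show (D'.obj.hom ≫ r) (v z) ∈ O
        rw [← Scheme.Hom.comp_apply, reassoc_of% hv, hab, Scheme.Hom.comp_apply, Scheme.Hom.comp_apply]
        exact (str (b z)).2)
      have hc : c ≫ W.ι = v := IsOpenImmersion.lift_fac _ _ _
      refine ⟨c, by rw [reassoc_of% hc, hv], ?_⟩
      have hcm : c ≫ m = d := by
        refine pullback.hom_ext ?_ ?_
        · rw [Category.assoc, hm1, reassoc_of% hc, hε.lift_fst]
        · rw [Category.assoc, hm2, ← cancel_mono O.ι, Category.assoc, hro, reassoc_of% hc, reassoc_of% hv, hab,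
            ← hd1, Category.assoc, ← Category.assoc π, hQ.fac, Category.assoc]
      rw [← Category.assoc, hcm, hd1]
    refine IsPullback.of_isLimit' ⟨by rw [hπs, Category.assoc]⟩ (PullbackCone.IsLimit.mk _
      (fun c => (hd c.fst c.snd c.condition).choose) (fun c => (hd c.fst c.snd c.condition).choose_spec.1)
      (fun c => (hd c.fst c.snd c.condition).choose_spec.2) fun c k hk1 hk2 => ?_)
    obtain ⟨h1, h2⟩ := (hd c.fst c.snd c.condition).choose_spec
    rw [← cancel_mono W.ι]
    apply hε.hom_ext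
    · have e : k ≫ m = (hd c.fst c.snd c.condition).choose ≫ m := by
        apply hQ.isPullback.hom_ext
        · rw [Category.assoc, Category.assoc, hk2, h2]
        · simp only [Category.assoc, reassoc_of% hm1]
          rw [hε.w]
          rw [reassoc_of% hk1, reassoc_of% h1]
      have e' := congrArg (· ≫ pullback.fst _ _) e
      simpa only [Category.assoc, hm1] using e'
    · rw [Category.assoc, Category.assoc, hk1, h1]
  · show (D'.obj.hom ≫ r) (act D' t) ∈ O
    rw [← Scheme.Hom.comp_apply (act D'), ← Category.assoc, act_hom, ← pullback.condition,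
      Scheme.Hom.comp_apply]
    exact ht
  · rw [← Category.assoc, ← Category.assoc]
    refine hQ.inv' (t ≫ m) (t' ≫ m) (x ≫ q) ?_ ?_ ?_
    · simp only [Category.assoc, reassoc_of% hm1, hε.w_assoc, w]
      simp only [Category.assoc] at hx
      rw [reassoc_of% hx]
    · refine (move_congr₂ (by rw [Category.assoc, hm1]; exact (Category.assoc _ _ _).symm) rfl).trans
        ((hmove (t ≫ W.ι) x hx ?_).symm.trans ?_)
      · simp only [Category.assoc, hε.w_assoc, w]
        simp only [Category.assoc] at hx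
        rw [reassoc_of% hx]
      · rw [he, Category.assoc, Category.assoc, hm1]
    · rw [Category.assoc, Category.assoc, hm2, ← cancel_mono O.ι, Category.assoc, Category.assoc, hro,
        ← Category.assoc t' W.ι, ← he, ← Category.assoc (move D' _ _ _), move_hom, ← hx, Category.assoc]

/-- A quotient of the pulled back datum gives effectivity over the change of base. -/
theorem isQuot_of_quot_pull {f : P ⟶ S} (Q : Quot (pull D (pullback.fst p f) pullback.condition) ⊤) :
    ∃ π : pullback (dHom D) f ⟶ Q.U, IsQuot D f Q.str π := by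
  let D₁ := pull D (pullback.fst p f) pullback.condition
  obtain ⟨e, he, hei⟩ : ∃ e : pullback (dHom D) f ⟶ ((⊤ : D₁.obj.left.Opens) : Scheme.{u}),
      e ≫ (⊤ : D₁.obj.left.Opens).ι = ofBC D f ∧ IsIso e :=
    ⟨(ofBC D f : _ ⟶ D₁.obj.left) ≫ (Scheme.topIso D₁.obj.left).inv, by
      simp only [Category.assoc, ← Scheme.topIso_hom, Iso.inv_hom_id]
      exact Category.comp_id _, inferInstance⟩
  refine ⟨e ≫ Q.π, ⟨?_, ?_, ?_⟩⟩
  · rw [Category.assoc, ← Q.isPullback.w, Category.assoc, reassoc_of% he]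
    exact ofBC_snd_snd D f
  · refine (Category.assoc _ _ _).symm.trans (Eq.trans ?_ (Category.assoc _ _ _))
    have h0 : (bcHom (pullback.fst (dHom D) p) rfl f ≫ ofBC D f) ≫ pullback.snd _ _ ≫ pullback.snd p f =
        (bcHom (act D) (act_dHom D) f ≫ ofBC D f ≫ pullback.snd _ _) ≫ pullback.snd p f := by
      simp
    refine Q.inv (bcHom (pullback.fst (dHom D) p) rfl f ≫ e) (bcHom (act D) (act_dHom D) f ≫ e)
      (bcHom (act D) (act_dHom D) f ≫ ofBC D f ≫ pullback.snd _ _) ?_ ?_
    · rw [Category.assoc _ e, he]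
      exact h0
    · refine (move_congr D₁ ((Category.assoc _ _ _).trans (congrArg (_ ≫ ·) he)) _).trans ?_
      refine Eq.trans ?_ ((Category.assoc _ _ _).trans (congrArg (_ ≫ ·) he)).symm
      apply (isPullback_pull D (pullback.fst p f) pullback.condition).hom_ext
      · rw [move_pull]
        have hc : (bcHom (pullback.fst (dHom D) p) rfl f ≫ ofBC D f ≫ pullback.fst _ _) ≫ D.obj.hom ≫ p =
            ((bcHom (act D) (act_dHom D) f ≫ ofBC D f ≫ pullback.snd _ _) ≫ pullback.fst p f) ≫ p := by
          have := lift_move_cond D (f := f) (bcHom (pullback.fst (dHom D) p) rfl f ≫ ofBC D f) rfl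
            ((Category.assoc _ _ _).trans h0)
          simpa only [Category.assoc] using this
        exact (move_congr₂ (Category.assoc _ _ _) rfl).trans
          ((bcHom_ofBC_move D f hc).trans (Category.assoc _ _ _).symm)
      · rw [move_hom]
        exact (Category.assoc _ _ _).symm
  · have h1 : IsPullback Q.π ((⊤ : D₁.obj.left.Opens).ι ≫ D₁.obj.hom ≫ pullback.fst p f) (Q.str ≫ f) p := by
      rw [← Category.assoc]
      exact Q.isPullback.flip.paste_vert (IsPullback.of_hasPullback p f).flip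
    refine h1.of_iso (asIso e).symm (Iso.refl _) (Iso.refl _) (Iso.refl _) ?_ ?_ (by simp) (by simp)
    · simp
    · simp only [Iso.refl_hom, Category.comp_id, Iso.symm_hom, asIso_inv, IsIso.eq_inv_comp, reassoc_of% he]
      exact ofBC_snd_fst D f

end Groth.Agent.QFinEtDesc
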