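import Groth.Agent.QFinEtDesc.FinCover
import Groth.Agent.QFinEtDesc.OverBase
import Groth.Agent.SubmEtSpread.Completion
import Groth.Agent.CAlgDVRExtLib.Basic
import Mathlib.RingTheory.Ideal.KrullsHeightTheorem

/-! Étale descent data along quasi-finite universally submersive morphisms are effective. -/

set_option autoImplicit false
set_option linter.style.haveILetI false
set_option backward.isDefEq.respectTransparency false
set_option backward.isDefEq.respectTransparency.types false

universe u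
open CategoryTheory CategoryTheory.Limits AlgebraicGeometry IsLocalRing

noncomputable section

namespace Groth.Agent.QFinEtDesc

open Groth.Agent.SchDesc Groth.Agent.SubmEtSpread
open _root_.Desc (SchDD SchDDFam toDDFam pullDDFam)

theorem lfp_of_noetherian {U V : Scheme.{u}} (f : U ⟶ V) [LocallyOfFiniteType f]
    [IsLocallyNoetherian V] : LocallyOfFinitePresentation f := by
  rw [HasRingHomProperty.iff_appLE (P := @LocallyOfFinitePresentation)]
  intro W E e
  haveI : IsNoetherianRing ↥Γ(V, W) := IsLocallyNoetherian.component_noetherian W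
  exact RingHom.FinitePresentation.of_finiteType.1
    (HasRingHomProperty.appLE (P := @LocallyOfFiniteType) f ‹_› W E e)

theorem height_toNat_lt {A : Type u} [CommRing A] [IsNoetherianRing A] {p q : PrimeSpectrum A}
    (h : p.asIdeal < q.asIdeal) : p.asIdeal.height.toNat < q.asIdeal.height.toNat := by
  have h1 := Ideal.height_add_one_le_of_lt_of_isPrime h
  obtain ⟨a, ha⟩ := ENat.ne_top_iff_exists.1 p.asIdeal.height_ne_top_of_isPrime
  obtain ⟨b, hb⟩ := ENat.ne_top_iff_exists.1 q.asIdeal.height_ne_top_of_isPrime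
  rw [← ha, ← hb] at h1 ⊢
  norm_cast at h1

variable {S S' : Scheme.{u}} (g : S' ⟶ S)

/-- The local statement: effectivity over a complete local base, assuming it away from the closed point. -/
theorem effAt_complete (hg : SGA1.UnivSubmersive g) [LocallyOfFiniteType g] [QuasiCompact g] [LocallyQuasiFinite g]
    (D : SchDDFam (fun _ : PUnit.{1} => g)) [Etale (D.obj PUnit.unit).hom]
    {B : Type u} [CommRing B] [IsNoetherianRing B] [IsLocalRing B] [HenselianLocalRing B] [IsAlgClosed (ResidueField B)]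
    (b : Spec (CommRingCat.of B) ⟶ S)
    (H : ∀ t : Spec (CommRingCat.of B), t ≠ closedPoint B → ∃ W : S.Opens, b t ∈ W ∧ EffAt D W.ι) :
    EffAt D b := by
  let D₀ := (_root_.Desc.SchDDFam.toSchDD g).obj D
  haveI : Etale D₀.obj.hom := ‹Etale (D.obj PUnit.unit).hom›
  let gB := pullback.snd g b
  have hgB : SGA1.UnivSubmersive gB := MorphismProperty.pullback_snd (P := MorphismProperty.universally _) _ _ hg
  let D₁ := pull D₀ (pullback.fst g b) (pullback.condition (f := g) (g := b))
  haveI hlft : LocallyOfFiniteType gB := MorphismProperty.pullback_snd _ _ inferInstance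
  haveI : QuasiCompact gB := MorphismProperty.pullback_snd _ _ inferInstance
  obtain ⟨T, h, hfin, hcov⟩ := exists_finite_cover_closedFibre gB (gB.finite_preimage_singleton (closedPoint B))
  haveI := hfin
  haveI : Surjective (h ≫ gB) := ⟨fun t => by
    obtain ⟨x', x, h1, h2, h3⟩ := exists_lift_specializes_closedFibre gB hgB t
    obtain ⟨z, hz⟩ := hcov x h2 x' h3
    exact ⟨z, by rw [Scheme.Hom.comp_apply, hz, h1]⟩⟩
  let wq : h ≫ gB = (h ≫ gB) ≫ 𝟙 _ := (Category.comp_id _).symm
  haveI : Etale D₁.obj.hom := MorphismProperty.of_isPullback (isPullback_pull D₀ _ _) ‹Etale D₀.obj.hom›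
  let D₂ := pull D₁ h wq
  haveI : Etale D₂.obj.hom := MorphismProperty.of_isPullback (isPullback_pull D₁ _ _) ‹Etale D₁.obj.hom›
  obtain ⟨Q₂, hQ₂⟩ : ∃ Q : Quot D₂ ⊤, Etale Q.str := by
    refine quot_top_of_punctured D₂ fun v hv => ?_
    obtain ⟨W, hW, hWe⟩ := H _ hv
    obtain ⟨U, str, π, hU, hπ⟩ := (effAt_iff D ((b ⁻¹ᵁ W).ι ≫ b)).1
      (hWe.of_comp (b ∣_ W) (morphismRestrict_ι b W))
    haveI := hU
    refine ⟨(D₂.obj.hom ≫ h ≫ gB) ⁻¹ᵁ (b ⁻¹ᵁ W), hW, ?_⟩
    refine quot_of_isQuot_over (D := D₀) (q := h ≫ pullback.fst g b) (s := b)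
      (by simp only [gB, Category.assoc, pullback.condition])
      (pullFst D₁ h wq ≫ pullFst D₀ _ pullback.condition) ((isPullback_pull D₁ h wq).paste_horiz (isPullback_pull D₀ _ _))
      (fun v x hx hx' => ?_) (b ⁻¹ᵁ W) hπ
    rw [← Category.assoc (move D₂ v x hx), move_pull, move_pull]
    exact move_congr₂ (Category.assoc _ _ _) (Category.assoc _ _ _)
  haveI := hQ₂
  obtain ⟨Q₁, hQ₁⟩ := quot_of_pull_refine h (univSubmersive_of_closed (h ≫ gB)) Q₂
  obtain ⟨π, hπ⟩ := isQuot_of_quot_pull (D := D₀) (f := b) Q₁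
  exact (effAt_iff D b).2 ⟨_, Q₁.str, π, hQ₁, hπ⟩

theorem effAt_stalk [IsLocallyNoetherian S] (hg : SGA1.UnivSubmersive g) [LocallyOfFiniteType g] [QuasiCompact g]
    [LocallyQuasiFinite g] [QuasiSeparated g]
    (D : SchDDFam (fun _ : PUnit.{1} => g)) [Etale (D.obj PUnit.unit).hom]
    [QuasiCompact (D.obj PUnit.unit).hom] [IsSeparated (D.obj PUnit.unit).hom] (a₀ : S) :
    EffAt D (S.fromSpecStalk a₀) := by
  let j := S.fromSpecStalk a₀
  suffices H : ∀ n : ℕ, ∀ p : PrimeSpectrum (S.presheaf.stalk a₀), p.asIdeal.height.toNat = n →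
      EffAt D (S.fromSpecStalk (j p)) by
    have := H _ (closedPoint (S.presheaf.stalk a₀)) rfl
    rwa [Scheme.fromSpecStalk_closedPoint] at this
  intro n
  induction n using Nat.strong_induction_on with
  | _ n ih =>
    intro p hp
    obtain ⟨B, iR, iA, iN, iL, iC, iK, iF, hm⟩ := exists_complete_algClosed' (S.presheaf.stalk (j p))
    obtain ⟨hf, hs⟩ := surjective_flat_specMap (A := S.presheaf.stalk (j p)) (B := B)
    haveI := hf
    haveI := hs
    haveI : HenselianLocalRing B := CAlgDVRExtLib.henselianLocalRing_of_complete B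
    refine effAt_of_baseChange hg D _ rfl (effAt_complete g hg D
      (Spec.map (CommRingCat.ofHom (algebraMap (S.presheaf.stalk (j p)) B)) ≫ S.fromSpecStalk (j p))
      fun t ht => ?_)
    let q : PrimeSpectrum (S.presheaf.stalk (j p)) := PrimeSpectrum.comap (algebraMap _ B) t
    have hq : q ≠ closedPoint _ := fun he => ht (PrimeSpectrum.ext (le_antisymm
      (IsLocalRing.le_maximalIdeal t.isPrime.ne_top)
      (le_of_eq_of_le hm.symm (Ideal.map_le_iff_le_comap.mpr (congrArg PrimeSpectrum.asIdeal he).ge))))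
    have hne : S.fromSpecStalk (j p) q ≠ j p := fun he => hq ((S.fromSpecStalk (j p)).isEmbedding.injective
      (he.trans (Scheme.fromSpecStalk_closedPoint).symm))
    have hsp : S.fromSpecStalk (j p) q ⤳ j p := by
      have h0 : S.fromSpecStalk (j p) q ∈ Set.range (S.fromSpecStalk (j p)) := ⟨q, rfl⟩
      rwa [Scheme.range_fromSpecStalk] at h0
    obtain ⟨p', hp'⟩ : S.fromSpecStalk (j p) q ∈ Set.range j := by
      have h0 : j p ∈ Set.range j := ⟨p, rfl⟩
      rw [Scheme.range_fromSpecStalk] at h0 ⊢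
      exact hsp.trans h0
    have hlt : p'.asIdeal < p.asIdeal := by
      refine lt_of_le_of_ne ((PrimeSpectrum.le_iff_specializes p' p).2 ?_) fun he => hne ?_
      · rw [← j.isEmbedding.isInducing.specializes_iff, hp']
        exact hsp
      · rw [← hp', PrimeSpectrum.ext he]
    have h2 := ih _ (hp ▸ height_toNat_lt hlt) p' rfl
    rw [hp'] at h2
    haveI := LocallyOfFiniteType.isLocallyNoetherian g
    haveI := lfp_of_noetherian g
    exact exists_nhd_of_stalk g hg D _ h2

/-- Effectivity along a quasi-finite universally submersive morphism. -/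
theorem effective_of_quasiFinite [IsLocallyNoetherian S] (hg : SGA1.UnivSubmersive g) [LocallyOfFiniteType g]
    [QuasiCompact g] [LocallyQuasiFinite g] (D : SchDD g) [QuasiCompact D.obj.hom] [IsSeparated D.obj.hom]
    [Etale D.obj.hom] :
    ∃ U : Over S, QuasiCompact U.hom ∧ IsSeparated U.hom ∧ Etale U.hom ∧
      Nonempty ((_root_.Desc.toDD g).obj U ≅ D) := by
  haveI := SubmEtLib.surjective_of_univSubmersive hg
  haveI := LocallyOfFiniteType.isLocallyNoetherian g
  haveI : QuasiSeparated g := inferInstance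
  haveI := lfp_of_noetherian g
  let Df := (_root_.Desc.SchDDFam.ofSchDD g).obj D
  haveI : Etale (Df.obj PUnit.unit).hom := ‹Etale D.obj.hom›
  haveI : QuasiCompact (Df.obj PUnit.unit).hom := ‹QuasiCompact D.obj.hom›
  haveI : IsSeparated (Df.obj PUnit.unit).hom := ‹IsSeparated D.obj.hom›
  obtain ⟨U₀, hU₀, ⟨e₀⟩⟩ := effective_of_completions g hg Df (effAt_stalk g hg Df)
  obtain ⟨U, str, π, hU, hπ⟩ := (effAt_iff Df (𝟙 S)).1 (effAt_of_effective Df (𝟙 S) ⟨U₀, hU₀, ⟨e₀⟩⟩)
  haveI := hU
  haveI : QuasiCompact ((_root_.Desc.SchDDFam.toSchDD g).obj Df).obj.hom := ‹QuasiCompact D.obj.hom›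
  haveI : IsSeparated ((_root_.Desc.SchDDFam.toSchDD g).obj Df).obj.hom := ‹IsSeparated D.obj.hom›
  exact ⟨Over.mk str, hπ.quasiCompact, hπ.isSeparated hg, hU, iso_of_isQuot_id hπ⟩

end Groth.Agent.QFinEtDesc
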