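import Groth.Agent.QFinEtDesc.Points
import Groth.Agent.QFinEtDesc.GlueStable
import Groth.Agent.SchDesc.Pull

/-! Étale descent data along a finite surjective cover of a henselian local scheme with algebraically closed
residue field: effective as soon as they are effective over the punctured spectrum. -/

set_option autoImplicit false
set_option linter.style.haveILetI false
set_option backward.isDefEq.respectTransparency false
set_option backward.isDefEq.respectTransparency.types false

universe u
open CategoryTheory CategoryTheory.Limits AlgebraicGeometry IsLocalRing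

noncomputable section

namespace Groth.Agent.QFinEtDesc

open Groth.Agent.SchDesc

theorem univSubmersive_of_closed {X S : Scheme.{u}} (p : X ⟶ S) [UniversallyClosed p] [Surjective p] :
    SGA1.UnivSubmersive p := by
  intro X' S' i₁ i₂ p' hsq
  haveI : UniversallyClosed p' := MorphismProperty.of_isPullback hsq.flip inferInstance
  haveI : Surjective p' := MorphismProperty.of_isPullback hsq.flip inferInstance
  exact p'.isClosedMap.isQuotientMap p'.continuous p'.surjective

variable {A : Type u} [CommRing A] [IsLocalRing A] [HenselianLocalRing A] [IsAlgClosed (ResidueField A)]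
  {X : Scheme.{u}} {p : X ⟶ Spec (CommRingCat.of A)}

theorem exists_stable_nhd [IsFinite p] (D : _root_.Desc.SchDD p) [Etale D.obj.hom] (v : D.obj.left)
    (hv : (D.obj.hom ≫ p) v = closedPoint A) :
    ∃ W : D.obj.left.Opens, v ∈ W ∧ ∃ Q : Quot D W, Etale Q.str := by
  haveI := locallyQuasiFinite_of_etale D.obj.hom
  obtain ⟨y, hy, hyv⟩ := exists_kpoint (D.obj.hom ≫ p) v hv
  obtain ⟨σ, hσ, hσy⟩ := exists_section p D.obj.hom (fun ξ hξ => move D y ξ (hy.trans hξ.symm))
    (fun ξ hξ => move_hom D y ξ _)
  haveI : Etale σ := by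
    haveI : Etale (σ ≫ D.obj.hom) := by rw [hσ]; infer_instance
    exact Etale.of_comp σ D.obj.hom
  haveI : IsSplitMono σ := ⟨⟨⟨D.obj.hom, hσ⟩⟩⟩
  haveI : IsOpenImmersion σ := IsOpenImmersion.of_flat_of_mono σ
  let W := σ.opensRange
  have hfix : ∀ {R : Scheme.{u}} (r : R ⟶ D.obj.left), Set.range r ⊆ (W : Set D.obj.left) →
      r ≫ D.obj.hom ≫ σ = r := by
    intro R r hr
    have h1 : IsOpenImmersion.lift σ r hr ≫ σ = r := IsOpenImmersion.lift_fac _ _ _
    conv_lhs => rw [← h1, Category.assoc, reassoc_of% hσ]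
    exact h1
  -- the two translates agree
  let f := pullback.fst p p ≫ p
  let a : pullback p p ⟶ D.obj.left := move D (pullback.fst p p ≫ σ) (pullback.snd p p)
    (by rw [Category.assoc, reassoc_of% hσ]; exact pullback.condition)
  have hab : a = pullback.snd p p ≫ σ := by
    refine hom_ext_kpoints f D.obj.hom _ _ (by rw [move_hom, Category.assoc, hσ, Category.comp_id]) fun ζ hζ => ?_
    have h1 : (ζ ≫ pullback.fst p p) ≫ p = pt₀ A := (Category.assoc _ _ _).trans hζ
    have h2 : (ζ ≫ pullback.snd p p) ≫ p = pt₀ A := by rw [Category.assoc, ← pullback.condition]; exact hζ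
    rw [← Category.assoc, hσy _ h2]
    refine (move_comp D ζ _ _ _).trans ?_
    refine (move_congr D ((Category.assoc _ _ _).symm.trans (hσy _ h1)) _).trans ?_
    exact move_move D y _ _ _ _ _
  have hact : ∀ {R : Scheme.{u}} (r : R ⟶ pullback (D.obj.hom ≫ p) p),
      Set.range (r ≫ pullback.fst _ _) ⊆ (W : Set D.obj.left) → r ≫ act D = (r ≫ pullback.snd _ _) ≫ σ := by
    intro R r hr
    let m : R ⟶ pullback p p := pullback.lift ((r ≫ pullback.fst _ _) ≫ D.obj.hom) (r ≫ pullback.snd _ _)
      (by simp only [Category.assoc, pullback.condition])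
    calc r ≫ act D = move D (r ≫ pullback.fst _ _) (r ≫ pullback.snd _ _)
          (by simp only [Category.assoc, pullback.condition]) := by
          rw [move]; congr 1; apply pullback.hom_ext <;> simp
      _ = m ≫ a := by
          refine Eq.trans ?_ (move_comp D m _ _ _).symm
          refine move_congr₂ ?_ ?_
          · rw [← Category.assoc m, pullback.lift_fst, Category.assoc _ D.obj.hom, hfix _ hr]
          · rw [pullback.lift_snd]
      _ = _ := by rw [hab, ← Category.assoc, pullback.lift_snd]
  have hst : Stable D W := by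
    intro t ht
    let O := pullback.fst (D.obj.hom ≫ p) p ⁻¹ᵁ W
    have h := hact O.ι (by rintro _ ⟨z, rfl⟩; exact z.2)
    have h' := congrArg (fun k : (O : Scheme.{u}) ⟶ D.obj.left => k ⟨t, ht⟩) h
    simp only [Scheme.Hom.comp_apply] at h'
    exact ⟨_, h'.symm⟩
  let e : (W : Scheme.{u}) ⟶ X := W.ι ≫ D.obj.hom
  haveI : IsIso e := by
    let j := IsOpenImmersion.lift W.ι σ (by rw [Scheme.Opens.range_ι]; exact subset_rfl)
    have hj : j ≫ W.ι = σ := IsOpenImmersion.lift_fac _ _ _
    refine ⟨j, ?_, ?_⟩
    · rw [← cancel_mono W.ι, Category.assoc, hj, Category.id_comp, Category.assoc]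
      exact hfix _ (by rw [Scheme.Opens.range_ι])
    · rw [← Category.assoc, hj, hσ]
  refine ⟨W, ?_, ⟨Spec (CommRingCat.of A), 𝟙 _, e ≫ p, IsPullback.of_horiz_isIso ⟨(Category.comp_id _).symm⟩ |>.flip.flip, hst,
    fun t t' x hx he => ?_⟩, inferInstance⟩
  · refine ⟨(y ≫ D.obj.hom) (closedPoint _), ?_⟩
    rw [← Scheme.Hom.comp_apply, Category.assoc, ← hyv]
    have h := hσy (y ≫ D.obj.hom) ((Category.assoc _ _ _).trans hy)
    rw [move_self D _ _ _ rfl, Category.assoc] at h
    rw [h]
  · show t ≫ (W.ι ≫ D.obj.hom) ≫ p = t' ≫ (W.ι ≫ D.obj.hom) ≫ p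
    rw [← Category.assoc t', ← Category.assoc t' W.ι, ← he, move_hom, ← hx]
    simp only [Category.assoc]

/-- The core case. -/
theorem quot_top_of_punctured [IsFinite p] [Surjective p] (D : _root_.Desc.SchDD p) [Etale D.obj.hom]
    (hU : ∀ v : D.obj.left, (D.obj.hom ≫ p) v ≠ closedPoint A →
      ∃ W : D.obj.left.Opens, v ∈ W ∧ ∃ Q : Quot D W, Etale Q.str) :
    ∃ Q : Quot D ⊤, Etale Q.str :=
  quot_top_of_cover (univSubmersive_of_closed p) fun v =>
    (em ((D.obj.hom ≫ p) v = closedPoint A)).elim (exists_stable_nhd D v) (hU v)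

end Groth.Agent.QFinEtDesc
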