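import Groth.Agent.ResExt.Main
import Groth.Agent.Henselization.Properties
import Mathlib.FieldTheory.IsAlgClosed.AlgebraicClosure

/-! Every local ring has a faithfully flat henselian extension with algebraically closed residue field. -/

set_option autoImplicit false
set_option linter.style.haveILetI false
set_option backward.isDefEq.respectTransparency false

universe u
open IsLocalRing

namespace Groth.Agent.QFinEtDesc

theorem exists_henselian_algClosed (A : Type u) [CommRing A] [IsLocalRing A] :
    ∃ (B : Type u) (_ : CommRing B) (_ : Algebra A B) (_ : IsLocalRing B) (_ : HenselianLocalRing B)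
      (_ : IsAlgClosed (ResidueField B)) (_ : Module.FaithfullyFlat A B),
      (maximalIdeal A).map (algebraMap A B) = maximalIdeal B := by
  let K := AlgebraicClosure (ResidueField A)
  obtain ⟨A₁, _, _, _, φ, hflat, hmax, -, hker, hint⟩ := ResExt.exists_purelyTranscendental_stage (A := A) K
  let _ : Algebra A₁ K := φ.toAlgebra
  have : Algebra.IsIntegral A₁ K := ⟨hint⟩
  obtain ⟨_, _⟩ := exists_wellFoundedLT (α := K)
  obtain ⟨R, _, _, hR, ψ, hψ, hψker⟩ := ResExt.exists_flat_surjective (A := A₁) (K := K) hker
  let _ : Algebra A R := ((algebraMap A₁ R).comp (algebraMap A A₁)).toAlgebra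
  have : IsScalarTower A A₁ R := .of_algebraMap_eq' rfl
  have hRflat : Module.Flat A R := Module.Flat.trans A A₁ R
  let J : Ideal R := RingHom.ker ψ.toRingHom
  haveI : J.IsMaximal := RingHom.ker_isMaximal_of_surjective _ hψ
  have hJ : (maximalIdeal A).map (algebraMap A R) = J := by
    rw [show algebraMap A R = (algebraMap A₁ R).comp (algebraMap A A₁) from rfl, ← Ideal.map_map, ← hmax]
    exact hψker.symm
  let B₀ := Localization.AtPrime J
  have hB₀ : (maximalIdeal A).map (algebraMap A B₀) = maximalIdeal B₀ := by
    rw [IsScalarTower.algebraMap_eq A R B₀, ← Ideal.map_map, hJ, Localization.AtPrime.map_eq_maximalIdeal]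
  haveI : Module.Flat R B₀ := IsLocalization.flat B₀ J.primeCompl
  haveI : Module.Flat A B₀ := Module.Flat.trans A R B₀
  haveI : IsLocalHom (algebraMap A B₀) := ⟨fun a ha => by
    by_contra hne
    have : algebraMap A B₀ a ∈ maximalIdeal B₀ := hB₀ ▸ Ideal.mem_map_of_mem _ ((mem_maximalIdeal a).mpr hne)
    exact (mem_maximalIdeal _).mp this ha⟩
  haveI : Module.FaithfullyFlat A B₀ := Module.FaithfullyFlat.of_flat_of_isLocalHom
  haveI : IsAlgClosed (ResidueField B₀) := by
    let e₁ : (R ⧸ J) ≃+* ResidueField B₀ := IsLocalization.AtPrime.equivQuotMaximalIdeal J B₀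
    let e₂ : (R ⧸ J) ≃+* K := RingHom.quotientKerEquivOfSurjective (f := ψ.toRingHom) hψ
    exact IsAlgClosed.of_ringEquiv K (ResidueField B₀) (e₂.symm.trans e₁)
  let B := Henselization.Hz B₀ (ResidueField B₀)
  letI : Algebra A B := ((algebraMap B₀ B).comp (algebraMap A B₀)).toAlgebra
  haveI : IsScalarTower A B₀ B := .of_algebraMap_eq' rfl
  haveI : Module.FaithfullyFlat A B := Module.FaithfullyFlat.trans A B₀ B
  haveI : IsAlgClosed (ResidueField B) := IsAlgClosed.of_ringEquiv (ResidueField B₀) (ResidueField B)
    (Henselization.resEquiv B₀ (ResidueField B₀)).toRingEquiv.symm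
  refine ⟨B, inferInstance, inferInstance, inferInstance, inferInstance, inferInstance, inferInstance, ?_⟩
  rw [show algebraMap A B = (algebraMap B₀ B).comp (algebraMap A B₀) from rfl, ← Ideal.map_map, hB₀,
    Henselization.map_maximalIdeal]

end Groth.Agent.QFinEtDesc
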