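import Groth.Agent.QFinEtDesc.Main
import Groth.Agent.QFinEtDesc.ExtLocal

/-! Étale descent data along finite surjective morphisms of finite presentation are effective. -/

set_option autoImplicit false
set_option linter.style.haveILetI false
set_option backward.isDefEq.respectTransparency false
set_option backward.isDefEq.respectTransparency.types false

universe u
open CategoryTheory CategoryTheory.Limits AlgebraicGeometry IsLocalRing

noncomputable section

namespace Groth.Agent.QFinEtDesc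

open Groth.Agent.SchDesc Groth.Agent.SubmEtSpread
open _root_.Desc (SchDD SchDDFam toDDFam pullDDFam)

variable {S S' : Scheme.{u}} (g : S' ⟶ S)

theorem effAt_henselian [IsFinite g] [Surjective g] (D : SchDDFam (fun _ : PUnit.{1} => g))
    [Etale (D.obj PUnit.unit).hom] {B : Type u} [CommRing B] [IsLocalRing B] [HenselianLocalRing B]
    [IsAlgClosed (ResidueField B)] (b : Spec (CommRingCat.of B) ⟶ S)
    (H : ∀ t : Spec (CommRingCat.of B), t ≠ closedPoint B → ∃ W : S.Opens, b t ∈ W ∧ EffAt D W.ι) :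
    EffAt D b := by
  let D₀ := (_root_.Desc.SchDDFam.toSchDD g).obj D
  haveI : Etale D₀.obj.hom := ‹Etale (D.obj PUnit.unit).hom›
  let gB := pullback.snd g b
  haveI : IsFinite gB := MorphismProperty.pullback_snd _ _ ‹IsFinite g›
  haveI : Surjective gB := MorphismProperty.pullback_snd _ _ ‹Surjective g›
  let D₁ := pull D₀ (pullback.fst g b) (pullback.condition (f := g) (g := b))
  haveI : Etale D₁.obj.hom := MorphismProperty.of_isPullback (isPullback_pull D₀ _ _) ‹Etale D₀.obj.hom›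
  obtain ⟨Q₁, hQ₁⟩ : ∃ Q : Quot D₁ ⊤, Etale Q.str := by
    refine quot_top_of_punctured D₁ fun v hv => ?_
    obtain ⟨W, hW, hWe⟩ := H _ hv
    obtain ⟨U, str, π, hU, hπ⟩ := (effAt_iff D ((b ⁻¹ᵁ W).ι ≫ b)).1
      (hWe.of_comp (b ∣_ W) (morphismRestrict_ι b W))
    haveI := hU
    refine ⟨(D₁.obj.hom ≫ gB) ⁻¹ᵁ (b ⁻¹ᵁ W), hW, ?_⟩
    exact quot_of_isQuot_over (D := D₀) (q := pullback.fst g b) (s := b) pullback.condition
      (pullFst D₀ _ pullback.condition) (isPullback_pull D₀ _ _)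
      (fun v x hx hx' => move_pull D₀ _ _ v x hx) (b ⁻¹ᵁ W) hπ
  obtain ⟨π, hπ⟩ := isQuot_of_quot_pull (D := D₀) (f := b) Q₁
  exact (effAt_iff D b).2 ⟨_, Q₁.str, π, hQ₁, hπ⟩

theorem effective_of_finite [IsFinite g] [Surjective g] [LocallyOfFinitePresentation g]
    (D : SchDD g) [QuasiCompact D.obj.hom] [IsSeparated D.obj.hom] [Etale D.obj.hom] :
    ∃ U : Over S, QuasiCompact U.hom ∧ IsSeparated U.hom ∧ Etale U.hom ∧
      Nonempty ((_root_.Desc.toDD g).obj U ≅ D) := by
  have hg : SGA1.UnivSubmersive g := univSubmersive_of_closed g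
  let Df := (_root_.Desc.SchDDFam.ofSchDD g).obj D
  haveI : Etale (Df.obj PUnit.unit).hom := ‹Etale D.obj.hom›
  haveI : QuasiCompact (Df.obj PUnit.unit).hom := ‹QuasiCompact D.obj.hom›
  haveI : IsSeparated (Df.obj PUnit.unit).hom := ‹IsSeparated D.obj.hom›
  let G : Set S := {s | ∃ W : S.Opens, s ∈ W ∧ EffAt Df W.ι}
  have hG : IsOpen G := isOpen_iff_forall_mem_open.2 fun s ⟨W, hs, hW⟩ =>
    ⟨W, fun t ht => ⟨W, ht, hW⟩, W.2, hs⟩
  have key : ∀ s, s ∈ G := by
    by_contra hne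
    push Not at hne
    obtain ⟨s, hs⟩ := hne
    haveI : Nonempty ↥(Gᶜ) := ⟨⟨s, hs⟩⟩
    haveI : QuasiSober ↥(Gᶜ) := hG.isClosed_compl.isClosedEmbedding_subtypeVal.quasiSober
    have hZ := irreducibleComponent_mem_irreducibleComponents (⟨s, hs⟩ : ↥(Gᶜ))
    let a := hZ.1.genericPoint
    have ha : closure ({a} : Set ↥(Gᶜ)) = irreducibleComponent ⟨s, hs⟩ :=
      hZ.1.isGenericPoint_genericPoint (isClosed_of_mem_irreducibleComponents _ hZ)
    have hgen : ∀ b : S, b ⤳ a.1 → b ≠ a.1 → b ∈ G := by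
      intro b hb hne
      by_contra hbG
      let b' : ↥(Gᶜ) := ⟨b, hbG⟩
      have h1 : b' ⤳ a := (subtype_specializes_iff _ _).2 hb
      have h2 : closure ({b'} : Set ↥(Gᶜ)) ≤ irreducibleComponent ⟨s, hs⟩ :=
        hZ.2 isIrreducible_singleton.closure (ha ▸ closure_minimal
          (Set.singleton_subset_iff.2 (specializes_iff_mem_closure.1 h1)) isClosed_closure)
      have h3 : a ⤳ b' := specializes_iff_mem_closure.2 (ha.symm ▸ h2 (subset_closure rfl))
      exact hne (((subtype_specializes_iff _ _).1 h1).antisymm ((subtype_specializes_iff _ _).1 h3)).eq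
    refine a.2 ?_
    obtain ⟨B, iR, iA, iL, iH, iK, iF, hm⟩ := exists_henselian_algClosed (S.presheaf.stalk a.1)
    obtain ⟨hf, hsj⟩ := surjective_flat_specMap (A := S.presheaf.stalk a.1) (B := B)
    haveI := hf
    haveI := hsj
    refine exists_nhd_of_stalk g hg Df a.1 (effAt_of_baseChange hg Df _ rfl (effAt_henselian g Df
      (Spec.map (CommRingCat.ofHom (algebraMap (S.presheaf.stalk a.1) B)) ≫ S.fromSpecStalk a.1) fun t ht => ?_))
    let q : PrimeSpectrum (S.presheaf.stalk a.1) := PrimeSpectrum.comap (algebraMap _ B) t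
    have hq : q ≠ closedPoint _ := fun he => ht (PrimeSpectrum.ext (le_antisymm
      (IsLocalRing.le_maximalIdeal t.isPrime.ne_top)
      (le_of_eq_of_le hm.symm (Ideal.map_le_iff_le_comap.mpr (congrArg PrimeSpectrum.asIdeal he).ge))))
    refine hgen (S.fromSpecStalk a.1 q) ?_ fun he => hq ((S.fromSpecStalk a.1).isEmbedding.injective
      (he.trans (Scheme.fromSpecStalk_closedPoint).symm))
    have h0 : S.fromSpecStalk a.1 q ∈ Set.range (S.fromSpecStalk a.1) := ⟨q, rfl⟩
    rwa [Scheme.range_fromSpecStalk] at h0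
  choose W hW hWe using key
  obtain ⟨U₀, hU₀, ⟨e₀⟩⟩ := (SubmEtLib.isEffective_iff_openCover g hg Df W (top_le_iff.mp fun a _ =>
    TopologicalSpace.Opens.mem_iSup.mpr ⟨a, hW a⟩)).2 hWe
  obtain ⟨U, str, π, hU, hπ⟩ := (effAt_iff Df (𝟙 S)).1 (effAt_of_effective Df (𝟙 S) ⟨U₀, hU₀, ⟨e₀⟩⟩)
  haveI := hU
  haveI : QuasiCompact ((_root_.Desc.SchDDFam.toSchDD g).obj Df).obj.hom := ‹QuasiCompact D.obj.hom›
  haveI : IsSeparated ((_root_.Desc.SchDDFam.toSchDD g).obj Df).obj.hom := ‹IsSeparated D.obj.hom›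
  exact ⟨Over.mk str, hπ.quasiCompact, hπ.isSeparated hg, hU, iso_of_isQuot_id hπ⟩

end Groth.Agent.QFinEtDesc
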