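import Groth.Agent.QFinEtDesc.ProperBC
import Groth.Agent.QFinEtDesc.FinSurj
import Groth.Agent.QFinEtDesc.Core

/-! Étale descent data along proper surjective morphisms of finite presentation are effective. -/

set_option autoImplicit false
set_option linter.style.haveILetI false
set_option backward.isDefEq.respectTransparency false
set_option backward.isDefEq.respectTransparency.types false

universe u
open CategoryTheory CategoryTheory.Limits AlgebraicGeometry IsLocalRing

noncomputable section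

namespace Groth.Agent.QFinEtDesc

open Groth.Agent.SchDesc Groth.Agent.SubmEtSpread
open _root_.Desc (SchDD SchDDFam toDDFam pullDDFam)

section Core

variable {A : Type u} [CommRing A] [IsLocalRing A] [HenselianLocalRing A] [IsAlgClosed (ResidueField A)]
  {X : Scheme.{u}} {p : X ⟶ Spec (CommRingCat.of A)}

theorem exists_stable_nhd_proper [IsProper p] (D : _root_.Desc.SchDD p) [Etale D.obj.hom] [IsSeparated D.obj.hom]
    (v : D.obj.left) (hv : (D.obj.hom ≫ p) v = closedPoint A) :
    ∃ W : D.obj.left.Opens, v ∈ W ∧ ∃ Q : Quot D W, Etale Q.str := by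
  obtain ⟨z, hz, -⟩ := Scheme.Pullback.exists_preimage_pullback (f := D.obj.hom ≫ p) (g := pt₀ A) v
    (closedPoint (ResidueField A)) (by rw [hv, pt₀_apply])
  let gk := pullback.snd (D.obj.hom ≫ p) (pt₀ A)
  haveI : LocallyOfFiniteType gk := MorphismProperty.pullback_snd _ _ inferInstance
  haveI : JacobsonSpace ↥(pullback (D.obj.hom ≫ p) (pt₀ A)) := LocallyOfFiniteType.jacobsonSpace gk
  obtain ⟨w, hwz, hwc⟩ := nonempty_inter_closedPoints (Z := closure {z}) ⟨z, subset_closure rfl⟩
    isClosed_closure.isLocallyClosed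
  obtain ⟨⟨q, hq⟩, hq'⟩ := (pointEquivClosedPoint gk).surjective ⟨w, hwc⟩
  have hqw : q (closedPoint (ResidueField A)) = w := congrArg Subtype.val hq'
  let y := q ≫ pullback.fst (D.obj.hom ≫ p) (pt₀ A)
  have hy : y ≫ D.obj.hom ≫ p = pt₀ A := by
    rw [Category.assoc, pullback.condition, reassoc_of% hq]
  let i := pullback.fst p (pt₀ A)
  have hc : (pullback.snd p (pt₀ A) ≫ y) ≫ D.obj.hom ≫ p = i ≫ p := by
    rw [Category.assoc, hy]; exact pullback.condition.symm
  obtain ⟨σ, hσ, hσy⟩ := exists_section_proper p D.obj.hom (move D (pullback.snd p (pt₀ A) ≫ y) i hc)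
    (move_hom D _ _ _)
  have hσ' : ∀ {R : Scheme.{u}} (r : R ⟶ X) (k : R ⟶ Spec (CommRingCat.of (ResidueField A)))
      (h : r ≫ p = k ≫ pt₀ A), r ≫ σ = move D (k ≫ y) r (by rw [Category.assoc, hy, h]) := fun {R} r k h => by
    have e : r = pullback.lift r k h ≫ i := (pullback.lift_fst _ _ _).symm
    conv_lhs => rw [e, Category.assoc, hσy]
    rw [move_comp]
    exact move_congr₂ (pullback.lift_snd_assoc _ _ _ _) (pullback.lift_fst _ _ _)
  haveI : Etale σ := by
    haveI : Etale (σ ≫ D.obj.hom) := by rw [hσ]; infer_instance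
    exact Etale.of_comp σ D.obj.hom
  haveI : IsSplitMono σ := ⟨⟨⟨D.obj.hom, hσ⟩⟩⟩
  haveI : IsOpenImmersion σ := IsOpenImmersion.of_flat_of_mono σ
  let W := σ.opensRange
  have hfix : ∀ {R : Scheme.{u}} (r : R ⟶ D.obj.left), Set.range r ⊆ (W : Set D.obj.left) →
      r ≫ D.obj.hom ≫ σ = r := by
    intro R r hr
    have h1 : IsOpenImmersion.lift σ r hr ≫ σ = r := IsOpenImmersion.lift_fac _ _ _
    conv_lhs => rw [← h1, Category.assoc, reassoc_of% hσ]
    exact h1
  -- the two translates agree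
  let f := pullback.fst p p ≫ p
  let a : pullback p p ⟶ D.obj.left := move D (pullback.fst p p ≫ σ) (pullback.snd p p)
    (by rw [Category.assoc, reassoc_of% hσ]; exact pullback.condition)
  have hab : a = pullback.snd p p ≫ σ := by
    refine hom_ext_closedFibre f D.obj.hom _ _ (by rw [move_hom, Category.assoc, hσ, Category.comp_id]) ?_
    let ι₀ := pullback.fst f (pt₀ A)
    have h1 : (ι₀ ≫ pullback.fst p p) ≫ p = pullback.snd f (pt₀ A) ≫ pt₀ A :=
      (Category.assoc _ _ _).trans pullback.condition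
    have h2 : (ι₀ ≫ pullback.snd p p) ≫ p = pullback.snd f (pt₀ A) ≫ pt₀ A := by
      rw [Category.assoc, ← pullback.condition (f := p) (g := p)]; exact pullback.condition
    show ι₀ ≫ a = _
    rw [← Category.assoc, hσ' _ _ h2]
    refine (move_comp D ι₀ _ _ _).trans ?_
    refine (move_congr D ((Category.assoc _ _ _).symm.trans (hσ' _ _ h1)) _).trans ?_
    exact move_move D _ _ _ _ _ _
  have hact : ∀ {R : Scheme.{u}} (r : R ⟶ pullback (D.obj.hom ≫ p) p),
      Set.range (r ≫ pullback.fst _ _) ⊆ (W : Set D.obj.left) → r ≫ act D = (r ≫ pullback.snd _ _) ≫ σ := by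
    intro R r hr
    let m : R ⟶ pullback p p := pullback.lift ((r ≫ pullback.fst _ _) ≫ D.obj.hom) (r ≫ pullback.snd _ _)
      (by simp only [Category.assoc, pullback.condition])
    calc r ≫ act D = move D (r ≫ pullback.fst _ _) (r ≫ pullback.snd _ _)
          (by simp only [Category.assoc, pullback.condition]) := by
          rw [move]; congr 1; apply pullback.hom_ext <;> simp
      _ = m ≫ a := by
          refine Eq.trans ?_ (move_comp D m _ _ _).symm
          refine move_congr₂ ?_ ?_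
          · rw [← Category.assoc m, pullback.lift_fst, Category.assoc _ D.obj.hom, hfix _ hr]
          · rw [pullback.lift_snd]
      _ = _ := by rw [hab, ← Category.assoc, pullback.lift_snd]
  have hst : Stable D W := by
    intro t ht
    let O := pullback.fst (D.obj.hom ≫ p) p ⁻¹ᵁ W
    have h := hact O.ι (by rintro _ ⟨z, rfl⟩; exact z.2)
    have h' := congrArg (fun k : (O : Scheme.{u}) ⟶ D.obj.left => k ⟨t, ht⟩) h
    simp only [Scheme.Hom.comp_apply] at h'
    exact ⟨_, h'.symm⟩
  let e : (W : Scheme.{u}) ⟶ X := W.ι ≫ D.obj.hom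
  haveI : IsIso e := by
    let j := IsOpenImmersion.lift W.ι σ (by rw [Scheme.Opens.range_ι]; exact subset_rfl)
    have hj : j ≫ W.ι = σ := IsOpenImmersion.lift_fac _ _ _
    refine ⟨j, ?_, ?_⟩
    · rw [← cancel_mono W.ι, Category.assoc, hj, Category.id_comp, Category.assoc]
      exact hfix _ (by rw [Scheme.Opens.range_ι])
    · rw [← Category.assoc, hj, hσ]
  refine ⟨W, ?_, ⟨Spec (CommRingCat.of A), 𝟙 _, e ≫ p, IsPullback.of_horiz_isIso ⟨(Category.comp_id _).symm⟩ |>.flip.flip, hst,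
    fun t t' x hx he => ?_⟩, inferInstance⟩
  · have hyW : y (closedPoint (ResidueField A)) ∈ W := by
      refine ⟨(y ≫ D.obj.hom) (closedPoint _), ?_⟩
      rw [← Scheme.Hom.comp_apply]
      have h := hσ' (y ≫ D.obj.hom) (𝟙 _) (by rw [Category.assoc, hy, Category.id_comp])
      exact congrArg (fun k => k (closedPoint _)) (h.trans ((move_congr₂ (Category.id_comp y) rfl
        (h' := (Category.assoc _ _ _).symm)).trans (move_self D _ _ _ rfl)))
    have hsp : v ⤳ y (closedPoint (ResidueField A)) := by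
      rw [← hz, Scheme.Hom.comp_apply, hqw]
      exact (specializes_iff_mem_closure.mpr hwz).map (pullback.fst (D.obj.hom ≫ p) (pt₀ A)).continuous
    exact hsp.mem_open W.2 hyW
  · show t ≫ (W.ι ≫ D.obj.hom) ≫ p = t' ≫ (W.ι ≫ D.obj.hom) ≫ p
    rw [← Category.assoc t', ← Category.assoc t' W.ι, ← he, move_hom, ← hx]
    simp only [Category.assoc]

end Core

variable {S S' : Scheme.{u}} (g : S' ⟶ S)

theorem effAt_henselian_proper [IsProper g] [Surjective g] (D : SchDDFam (fun _ : PUnit.{1} => g))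
    [Etale (D.obj PUnit.unit).hom] [IsSeparated (D.obj PUnit.unit).hom] {B : Type u} [CommRing B] [IsLocalRing B]
    [HenselianLocalRing B] [IsAlgClosed (ResidueField B)] (b : Spec (CommRingCat.of B) ⟶ S)
    (H : ∀ t : Spec (CommRingCat.of B), t ≠ closedPoint B → ∃ W : S.Opens, b t ∈ W ∧ EffAt D W.ι) :
    EffAt D b := by
  let D₀ := (_root_.Desc.SchDDFam.toSchDD g).obj D
  haveI : Etale D₀.obj.hom := ‹Etale (D.obj PUnit.unit).hom›
  haveI : IsSeparated D₀.obj.hom := ‹IsSeparated (D.obj PUnit.unit).hom›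
  let gB := pullback.snd g b
  haveI : IsProper gB := MorphismProperty.pullback_snd _ _ ‹IsProper g›
  haveI : Surjective gB := MorphismProperty.pullback_snd _ _ ‹Surjective g›
  let D₁ := pull D₀ (pullback.fst g b) (pullback.condition (f := g) (g := b))
  haveI : Etale D₁.obj.hom := MorphismProperty.of_isPullback (isPullback_pull D₀ _ _) ‹Etale D₀.obj.hom›
  haveI : IsSeparated D₁.obj.hom :=
    MorphismProperty.of_isPullback (isPullback_pull D₀ _ _) ‹IsSeparated D₀.obj.hom›
  obtain ⟨Q₁, hQ₁⟩ : ∃ Q : Quot D₁ ⊤, Etale Q.str := by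
    refine quot_top_of_cover (univSubmersive_of_closed gB) fun v =>
      (em ((D₁.obj.hom ≫ gB) v = closedPoint B)).elim (exists_stable_nhd_proper D₁ v) fun hv => ?_
    obtain ⟨W, hW, hWe⟩ := H _ hv
    obtain ⟨U, str, π, hU, hπ⟩ := (effAt_iff D ((b ⁻¹ᵁ W).ι ≫ b)).1
      (hWe.of_comp (b ∣_ W) (morphismRestrict_ι b W))
    haveI := hU
    refine ⟨(D₁.obj.hom ≫ gB) ⁻¹ᵁ (b ⁻¹ᵁ W), hW, ?_⟩
    exact quot_of_isQuot_over (D := D₀) (q := pullback.fst g b) (s := b) pullback.condition
      (pullFst D₀ _ pullback.condition) (isPullback_pull D₀ _ _)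
      (fun v x hx hx' => move_pull D₀ _ _ v x hx) (b ⁻¹ᵁ W) hπ
  obtain ⟨π, hπ⟩ := isQuot_of_quot_pull (D := D₀) (f := b) Q₁
  exact (effAt_iff D b).2 ⟨_, Q₁.str, π, hQ₁, hπ⟩

theorem effective_of_proper [IsProper g] [Surjective g] [LocallyOfFinitePresentation g]
    (D : SchDD g) [QuasiCompact D.obj.hom] [IsSeparated D.obj.hom] [Etale D.obj.hom] :
    ∃ U : Over S, QuasiCompact U.hom ∧ IsSeparated U.hom ∧ Etale U.hom ∧
      Nonempty ((_root_.Desc.toDD g).obj U ≅ D) := by
  have hg : SGA1.UnivSubmersive g := univSubmersive_of_closed g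
  let Df := (_root_.Desc.SchDDFam.ofSchDD g).obj D
  haveI : Etale (Df.obj PUnit.unit).hom := ‹Etale D.obj.hom›
  haveI : QuasiCompact (Df.obj PUnit.unit).hom := ‹QuasiCompact D.obj.hom›
  haveI : IsSeparated (Df.obj PUnit.unit).hom := ‹IsSeparated D.obj.hom›
  let G : Set S := {s | ∃ W : S.Opens, s ∈ W ∧ EffAt Df W.ι}
  have hG : IsOpen G := isOpen_iff_forall_mem_open.2 fun s ⟨W, hs, hW⟩ =>
    ⟨W, fun t ht => ⟨W, ht, hW⟩, W.2, hs⟩
  have key : ∀ s, s ∈ G := by
    by_contra hne
    push Not at hne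
    obtain ⟨s, hs⟩ := hne
    haveI : Nonempty ↥(Gᶜ) := ⟨⟨s, hs⟩⟩
    haveI : QuasiSober ↥(Gᶜ) := hG.isClosed_compl.isClosedEmbedding_subtypeVal.quasiSober
    have hZ := irreducibleComponent_mem_irreducibleComponents (⟨s, hs⟩ : ↥(Gᶜ))
    let a := hZ.1.genericPoint
    have ha : closure ({a} : Set ↥(Gᶜ)) = irreducibleComponent ⟨s, hs⟩ :=
      hZ.1.isGenericPoint_genericPoint (isClosed_of_mem_irreducibleComponents _ hZ)
    have hgen : ∀ b : S, b ⤳ a.1 → b ≠ a.1 → b ∈ G := by
      intro b hb hne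
      by_contra hbG
      let b' : ↥(Gᶜ) := ⟨b, hbG⟩
      have h1 : b' ⤳ a := (subtype_specializes_iff _ _).2 hb
      have h2 : closure ({b'} : Set ↥(Gᶜ)) ≤ irreducibleComponent ⟨s, hs⟩ :=
        hZ.2 isIrreducible_singleton.closure (ha ▸ closure_minimal
          (Set.singleton_subset_iff.2 (specializes_iff_mem_closure.1 h1)) isClosed_closure)
      have h3 : a ⤳ b' := specializes_iff_mem_closure.2 (ha.symm ▸ h2 (subset_closure rfl))
      exact hne (((subtype_specializes_iff _ _).1 h1).antisymm ((subtype_specializes_iff _ _).1 h3)).eq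
    refine a.2 ?_
    obtain ⟨B, iR, iA, iL, iH, iK, iF, hm⟩ := exists_henselian_algClosed (S.presheaf.stalk a.1)
    obtain ⟨hf, hsj⟩ := surjective_flat_specMap (A := S.presheaf.stalk a.1) (B := B)
    haveI := hf
    haveI := hsj
    refine exists_nhd_of_stalk g hg Df a.1 (effAt_of_baseChange hg Df _ rfl (effAt_henselian_proper g Df
      (Spec.map (CommRingCat.ofHom (algebraMap (S.presheaf.stalk a.1) B)) ≫ S.fromSpecStalk a.1) fun t ht => ?_))
    let q : PrimeSpectrum (S.presheaf.stalk a.1) := PrimeSpectrum.comap (algebraMap _ B) t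
    have hq : q ≠ closedPoint _ := fun he => ht (PrimeSpectrum.ext (le_antisymm
      (IsLocalRing.le_maximalIdeal t.isPrime.ne_top)
      (le_of_eq_of_le hm.symm (Ideal.map_le_iff_le_comap.mpr (congrArg PrimeSpectrum.asIdeal he).ge))))
    refine hgen (S.fromSpecStalk a.1 q) ?_ fun he => hq ((S.fromSpecStalk a.1).isEmbedding.injective
      (he.trans (Scheme.fromSpecStalk_closedPoint).symm))
    have h0 : S.fromSpecStalk a.1 q ∈ Set.range (S.fromSpecStalk a.1) := ⟨q, rfl⟩
    rwa [Scheme.range_fromSpecStalk] at h0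
  choose W hW hWe using key
  obtain ⟨U₀, hU₀, ⟨e₀⟩⟩ := (SubmEtLib.isEffective_iff_openCover g hg Df W (top_le_iff.mp fun a _ =>
    TopologicalSpace.Opens.mem_iSup.mpr ⟨a, hW a⟩)).2 hWe
  obtain ⟨U, str, π, hU, hπ⟩ := (effAt_iff Df (𝟙 S)).1 (effAt_of_effective Df (𝟙 S) ⟨U₀, hU₀, ⟨e₀⟩⟩)
  haveI := hU
  haveI : QuasiCompact ((_root_.Desc.SchDDFam.toSchDD g).obj Df).obj.hom := ‹QuasiCompact D.obj.hom›
  haveI : IsSeparated ((_root_.Desc.SchDDFam.toSchDD g).obj Df).obj.hom := ‹IsSeparated D.obj.hom›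
  exact ⟨Over.mk str, hπ.quasiCompact, hπ.isSeparated hg, hU, iso_of_isQuot_id hπ⟩

theorem effective_finiteEtale_of_proper [IsProper g] [Surjective g] [LocallyOfFinitePresentation g]
    (D : SchDD g) [IsFinite D.obj.hom] [Etale D.obj.hom] :
    ∃ U : Over S, IsFinite U.hom ∧ Etale U.hom ∧ Nonempty ((_root_.Desc.toDD g).obj U ≅ D) := by
  obtain ⟨U, hqc, hsep, het, ⟨e⟩⟩ := effective_of_proper g D
  refine ⟨U, ?_, het, ⟨e⟩⟩
  have hg : SGA1.UnivSubmersive g := univSubmersive_of_closed g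
  haveI := hqc; haveI := hsep; haveI := het
  haveI : IsIso e.hom.hom.left :=
    ⟨e.inv.hom.left, congrArg (fun k => k.hom.left) e.hom_inv_id, congrArg (fun k => k.hom.left) e.inv_hom_id⟩
  have h1 : e.hom.hom.left ≫ D.obj.hom = pullback.fst g U.hom := Over.w e.hom.hom
  haveI : UniversallyClosed (pullback.fst g U.hom) := by
    rw [← h1]; infer_instance
  haveI : UniversallyClosed (SubmEtLib.bcMap g U.hom (𝟙 S)) := by
    have h2 : SubmEtLib.bcMap g U.hom (𝟙 S) ≫ pullback.snd (𝟙 S) g =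
        (pullbackSymmetry (U.hom ≫ 𝟙 S) g).hom ≫ (pullback.congrHom rfl (Category.comp_id U.hom)).hom ≫
          pullback.fst g U.hom := by
      simp [SubmEtLib.bcMap]
    rw [← MorphismProperty.cancel_right_of_respectsIso @UniversallyClosed _ (pullback.snd (𝟙 S) g), h2]
    infer_instance
  haveI : UniversallyClosed U.hom := SubmEtLib.universallyClosed_of_bcMap g U.hom (𝟙 S) hg inferInstance
  haveI : LocallyQuasiFinite U.hom := locallyQuasiFinite_of_etale U.hom
  haveI : IsProper U.hom := {}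
  exact IsFinite.of_isProper_of_locallyQuasiFinite U.hom

end Groth.Agent.QFinEtDesc
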