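import Groth.Agent.Hensel.QuasiFinite
import Groth.Agent.ASp.FiniteCoprod
import Groth.Agent.UnivOpenAtLib.Dvr
import Groth.Agent.SchDesc.Germs
import Groth.Agent.QFinEtDesc.Core

/-! A finite scheme covering the generisations of a finite closed fibre over a henselian local ring. -/

set_option autoImplicit false
set_option linter.style.haveILetI false
set_option backward.isDefEq.respectTransparency false
set_option backward.isDefEq.respectTransparency.types false

universe u
open CategoryTheory CategoryTheory.Limits AlgebraicGeometry IsLocalRing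

noncomputable section

namespace Groth.Agent.QFinEtDesc

variable {A : Type u} [CommRing A] [IsLocalRing A]

theorem isFinite_sigmaDesc' {G : Type u} [Finite G] {Z : Scheme.{u}} (W : G → Scheme.{u}) (f : ∀ g, W g ⟶ Z)
    (hf : ∀ g, IsFinite (f g)) : IsFinite (Limits.Sigma.desc f) := by
  obtain ⟨m, ⟨e⟩⟩ := Finite.exists_equiv_fin G
  let e' : ULift.{u} (Fin m) ≃ G := Equiv.ulift.trans e.symm
  haveI := Groth.Agent.ASp.isFinite_sigmaDesc (fun i => W (e' i)) (fun i => f (e' i)) fun i => hf _
  let r : ∐ W ≅ ∐ fun i => W (e' i) := (Sigma.reindex e' W).symm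
  have h : r.inv ≫ Limits.Sigma.desc f = Limits.Sigma.desc fun i => f (e' i) := Sigma.hom_ext _ _ fun i => by
    refine Eq.trans (Eq.trans ((Category.assoc _ _ _).symm.trans (congrArg (· ≫ Limits.Sigma.desc f)
      (Sigma.ι_reindex_hom e' W i))) (Limits.Sigma.ι_desc f (e' i))) ?_
    exact (Limits.Sigma.ι_desc (fun i => f (e' i)) i).symm
  rw [← MorphismProperty.cancel_left_of_respectsIso @IsFinite r.inv, h]
  infer_instance

theorem isDiscrete_closedFibre {X : Scheme.{u}} (g : X ⟶ Spec (CommRingCat.of A)) [LocallyOfFiniteType g]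
    (hfin : (g ⁻¹' {closedPoint A}).Finite) : DiscreteTopology ↥(g ⁻¹' {closedPoint A}) := by
  let i := pullback.fst g (pt₀ A)
  haveI : IsClosedImmersion i := MorphismProperty.pullback_fst _ _ inferInstance
  haveI : JacobsonSpace ↥(pullback g (pt₀ A)) := LocallyOfFiniteType.jacobsonSpace (pullback.snd g (pt₀ A))
  have hr : Set.range i = g ⁻¹' {closedPoint A} := by
    rw [Scheme.Pullback.range_fst]
    congr 1
    ext z
    exact ⟨fun ⟨w, hw⟩ => hw ▸ pt₀_apply w, fun hz => ⟨closedPoint _, (pt₀_apply _).trans (Set.mem_singleton_iff.mp hz).symm⟩⟩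
  haveI : Finite ↥(pullback g (pt₀ A)) := by
    have hf : (Set.range i).Finite := hr ▸ hfin
    exact Set.finite_univ_iff.mp (Set.Finite.of_finite_image (f := i) (by rwa [Set.image_univ])
      i.isClosedEmbedding.injective.injOn)
  haveI : DiscreteTopology ↥(Set.range i) := i.isClosedEmbedding.isEmbedding.toHomeomorph.discreteTopology
  rw [← hr]
  infer_instance

theorem exists_finite_piece [HenselianLocalRing A] {X : Scheme.{u}} (g : X ⟶ Spec (CommRingCat.of A))
    [LocallyOfFiniteType g] (hfin : (g ⁻¹' {closedPoint A}).Finite) {x : X} (hx : g x = closedPoint A) :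
    ∃ (T : Scheme.{u}) (h : T ⟶ X), IsFinite (h ≫ g) ∧ ∀ x', x' ⤳ x → x' ∈ Set.range h := by
  obtain ⟨U, hU, hxU, -⟩ := exists_isAffineOpen_mem_and_subset (TopologicalSpace.Opens.mem_top x)
  let φ := Spec.preimage (hU.fromSpec ≫ g)
  letI : Algebra A Γ(X, U) := φ.hom.toAlgebra
  have hφ : hU.fromSpec ≫ g = Spec.map φ := (Spec.map_preimage _).symm
  haveI : Algebra.FiniteType A Γ(X, U) := by
    have h : LocallyOfFiniteType (Spec.map φ) := by rw [← hφ]; infer_instance
    rw [HasRingHomProperty.Spec_iff (P := @LocallyOfFiniteType)] at h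
    exact h
  obtain ⟨q, rfl⟩ : x ∈ Set.range hU.fromSpec := by rw [hU.range_fromSpec]; exact hxU
  have hqm : PrimeSpectrum.comap (algebraMap A Γ(X, U)) q = closedPoint A := by
    rw [← Scheme.Hom.comp_apply, hφ] at hx
    exact hx
  haveI : Algebra.QuasiFiniteAt A q.asIdeal := by
    rw [Algebra.quasiFiniteAt_iff_isOpen_singleton_fiber]
    haveI := isDiscrete_closedFibre g hfin
    let F : ↥(PrimeSpectrum.comap (algebraMap A Γ(X, U)) ⁻¹' {PrimeSpectrum.comap (algebraMap A Γ(X, U)) q}) →
        ↥(g ⁻¹' {closedPoint A}) :=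
      fun w => ⟨hU.fromSpec w.1, by
        show g (hU.fromSpec w.1) = closedPoint A
        rw [← Scheme.Hom.comp_apply, hφ]
        exact (w.2 : PrimeSpectrum.comap (algebraMap A Γ(X, U)) w.1 = _).trans hqm⟩
    have hFc : Continuous F := (hU.fromSpec.continuous.comp continuous_subtype_val).subtype_mk _
    have hFi : Function.Injective F := fun a b e => by
      have h := congrArg Subtype.val e
      exact Subtype.ext (hU.fromSpec.isOpenEmbedding.injective h)
    haveI := DiscreteTopology.of_continuous_injective hFc hFi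
    exact isOpen_discrete _
  obtain ⟨e, he, heq, -⟩ := Hensel.exists_finIdem (R := A) (S := Γ(X, U)) q.asIdeal (congrArg PrimeSpectrum.asIdeal hqm)
  let mk := Ideal.Quotient.mk (Ideal.span ({1 - e} : Set Γ(X, U)))
  refine ⟨Spec (CommRingCat.of (Γ(X, U) ⧸ Ideal.span ({1 - e} : Set Γ(X, U)))), Spec.map (CommRingCat.ofHom mk) ≫ hU.fromSpec, ?_, ?_⟩
  · rw [Category.assoc, hφ, ← Spec.map_comp, IsFinite.SpecMap_iff]
    haveI := he.module_finite
    exact RingHom.finite_algebraMap.mpr ‹Module.Finite A (Γ(X, U) ⧸ Ideal.span ({1 - e} : Set Γ(X, U)))›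
  · intro x' hx'
    obtain ⟨p', rfl⟩ : x' ∈ Set.range hU.fromSpec := by
      rw [hU.range_fromSpec]
      exact hx'.mem_open U.2 hxU
    have hle : p'.asIdeal ≤ q.asIdeal := (PrimeSpectrum.le_iff_specializes p' q).2
      (hU.fromSpec.isOpenEmbedding.isInducing.specializes_iff.1 hx')
    have h1 : 1 - e ∈ p'.asIdeal := by
      refine (p'.isPrime.mem_or_mem (x := e) (y := 1 - e) ?_).resolve_left fun h => heq (hle h)
      rw [show e * (1 - e) = 0 by linear_combination -he.1.eq]
      exact zero_mem _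
    obtain ⟨w, hw⟩ : p' ∈ Set.range (PrimeSpectrum.comap mk) := by
      rw [range_comap_of_surjective _ _ Ideal.Quotient.mk_surjective, Ideal.mk_ker]
      rw [PrimeSpectrum.mem_zeroLocus]
      exact Ideal.span_le.2 (by simpa using h1)
    exact ⟨w, by rw [Scheme.Hom.comp_apply]; exact congrArg hU.fromSpec hw⟩

/-- A finite scheme over `A` mapping onto all generisations of the closed fibre. -/
theorem exists_finite_cover_closedFibre [HenselianLocalRing A] {X : Scheme.{u}} (g : X ⟶ Spec (CommRingCat.of A))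
    [LocallyOfFiniteType g] (hfin : (g ⁻¹' {closedPoint A}).Finite) :
    ∃ (T : Scheme.{u}) (h : T ⟶ X), IsFinite (h ≫ g) ∧
      ∀ x, g x = closedPoint A → ∀ x', x' ⤳ x → x' ∈ Set.range h := by
  let ι := ↥(g ⁻¹' {closedPoint A})
  haveI : Finite ι := hfin.to_subtype
  choose T h hf hr using fun x : ι => exists_finite_piece g hfin x.2
  refine ⟨∐ T, Sigma.desc h, ?_, fun x hx x' hx' => ?_⟩
  · rw [show Sigma.desc h ≫ g = Sigma.desc (fun x => h x ≫ g) from Sigma.hom_ext _ _ fun x => by simp]
    exact isFinite_sigmaDesc' _ _ hf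
  · obtain ⟨t, ht⟩ := hr ⟨x, hx⟩ x' hx'
    exact ⟨Sigma.ι T ⟨x, hx⟩ t, by rw [← Scheme.Hom.comp_apply, Sigma.ι_desc, ht]⟩

/-- Along a universally submersive morphism every point has a lift specialising to the closed fibre. -/
theorem exists_lift_specializes_closedFibre [IsNoetherianRing A] {X : Scheme.{u}}
    (g : X ⟶ Spec (CommRingCat.of A)) [LocallyOfFiniteType g] [QuasiCompact g] (hg : SGA1.UnivSubmersive g)
    (t : Spec (CommRingCat.of A)) : ∃ x' x : X, g x' = t ∧ g x = closedPoint A ∧ x' ⤳ x := by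
  haveI := SubmEtLib.surjective_of_univSubmersive hg
  obtain rfl | hne := eq_or_ne t (closedPoint A)
  · obtain ⟨x, hx⟩ := g.surjective (closedPoint A)
    exact ⟨x, x, hx, hx, specializes_rfl⟩
  obtain ⟨R, _, _, _, b, hb0, hb1⟩ := UnivOpenAtLib.exists_dvr_specialization (specializes_closedPoint t) hne
  let q := pullback.snd g b
  have hq : Topology.IsQuotientMap q.base := hg _ _ _ (IsPullback.of_hasPullback g b).flip
  let c : Spec (CommRingCat.of R) := closedPoint R
  have hcl : IsClosed ({c} : Set (Spec (CommRingCat.of R))) :=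
    (PrimeSpectrum.isClosed_singleton_iff_isMaximal _).mpr (IsLocalRing.maximalIdeal.isMaximal R)
  let O : (pullback g b).Opens := q ⁻¹ᵁ ⟨{c}ᶜ, hcl.isOpen_compl⟩
  haveI : LocallyOfFiniteType q := MorphismProperty.pullback_snd _ _ inferInstance
  haveI : QuasiCompact q := MorphismProperty.pullback_snd _ _ inferInstance
  haveI : IsLocallyNoetherian (pullback g b) := LocallyOfFiniteType.isLocallyNoetherian q
  haveI : CompactSpace ↥(pullback g b) := QuasiCompact.compactSpace_of_compactSpace q
  haveI : IsNoetherian (pullback g b) := ⟨⟩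
  haveI : CompactSpace ↥(O : Scheme.{u}) := isCompact_iff_compactSpace.mp
    (TopologicalSpace.NoetherianSpace.isCompact _)
  have hnc : ¬ IsClosed (O : Set ↥(pullback g b)) := fun h => by
    have h2 : IsClosed ({c}ᶜ : Set (Spec (CommRingCat.of R))) := hq.isClosed_preimage.mp h
    have h3 : c ∈ ({c}ᶜ : Set (Spec (CommRingCat.of R))) := by
      obtain ⟨η, hη⟩ : ∃ η : Spec (CommRingCat.of R), η ≠ c :=
        ⟨⟨⊥, Ideal.isPrime_bot⟩, fun he => IsDiscreteValuationRing.not_a_field R (congrArg PrimeSpectrum.asIdeal he).symm⟩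
      exact (specializes_closedPoint η).mem_closed h2 hη
    exact h3 rfl
  obtain ⟨z, hz, hzO⟩ : ∃ z ∈ closure (O : Set ↥(pullback g b)), z ∉ O := by
    by_contra hh
    push Not at hh
    exact hnc (closure_subset_iff_isClosed.mp hh)
  obtain ⟨w, hw⟩ := SchDesc.exists_specializes_of_mem_closure_range O.ι (v := z) (by
    rw [Scheme.Opens.range_ι]; exact hz)
  refine ⟨pullback.fst g b (O.ι w), pullback.fst g b z, ?_, ?_, hw.map (pullback.fst g b).continuous⟩
  · rw [← Scheme.Hom.comp_apply, ← Scheme.Hom.comp_apply, pullback.condition, Scheme.Hom.comp_apply,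
      Scheme.Hom.comp_apply]
    exact hb1 _ w.2
  · rw [← Scheme.Hom.comp_apply, pullback.condition, Scheme.Hom.comp_apply]
    have : q z = c := by by_contra h; exact hzO h
    rw [show pullback.snd g b z = c from this]
    exact hb0

end Groth.Agent.QFinEtDesc
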