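import Groth.Agent.Hensel.Local
import Groth.Agent.EtaleSplit.HenselSplit
import Groth.Agent.S0505
import Mathlib.AlgebraicGeometry.AlgClosed.Basic
import Mathlib.AlgebraicGeometry.Morphisms.QuasiFinite

/-! Points with values in an algebraically closed residue field of a henselian local ring. -/

set_option autoImplicit false
set_option linter.style.haveILetI false
set_option backward.isDefEq.respectTransparency false
set_option backward.isDefEq.respectTransparency.types false

universe u
open CategoryTheory CategoryTheory.Limits AlgebraicGeometry IsLocalRing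

noncomputable section

namespace Groth.Agent.QFinEtDesc

variable {A : Type u} [CommRing A] [IsLocalRing A]

variable (A) in
/-- The closed point as a morphism. -/
abbrev pt₀ : Spec (CommRingCat.of (ResidueField A)) ⟶ Spec (CommRingCat.of A) :=
  Spec.map (CommRingCat.ofHom (residue A))

theorem pt₀_apply (z) : pt₀ A z = closedPoint A := PrimeSpectrum.comap_residue A z

instance : IsClosedImmersion (pt₀ A) := IsClosedImmersion.spec_of_surjective _ residue_surjective

theorem kpoint_apply {Y : Scheme.{u}} (f : Y ⟶ Spec (CommRingCat.of A))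
    {y : Spec (CommRingCat.of (ResidueField A)) ⟶ Y} (hy : y ≫ f = pt₀ A) (z) : f (y z) = closedPoint A := by
  rw [← Scheme.Hom.comp_apply, hy, pt₀_apply]

theorem exists_specializes_closedFibre {Z : Scheme.{u}} (f : Z ⟶ Spec (CommRingCat.of A)) [UniversallyClosed f]
    (z : Z) : ∃ z₀ : Z, f z₀ = closedPoint A ∧ z ⤳ z₀ := by
  have hc : IsClosed (f '' closure {z}) := f.isClosedMap _ isClosed_closure
  have h : closedPoint A ∈ f '' closure {z} :=
    (specializes_closedPoint (f z)).mem_closed hc ⟨z, subset_closure rfl, rfl⟩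
  obtain ⟨z₀, h1, h2⟩ := h
  exact ⟨z₀, h2, specializes_iff_mem_closure.mpr h1⟩

theorem eq_closedPoint_of_kpoint {C : Type u} [CommRing C] [IsLocalRing C]
    (f : Spec (CommRingCat.of C) ⟶ Spec (CommRingCat.of A))
    {y : Spec (CommRingCat.of (ResidueField A)) ⟶ Spec (CommRingCat.of C)} (hy : y ≫ f = pt₀ A) (z) :
    y z = closedPoint C := by
  have h1 : (Spec.preimage y).hom.comp (Spec.preimage f).hom = residue A := by
    have : Spec.preimage f ≫ Spec.preimage y = CommRingCat.ofHom (residue A) :=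
      Spec.map_injective (by rw [Spec.map_comp, Spec.map_preimage, Spec.map_preimage, hy])
    exact congrArg CommRingCat.Hom.hom this
  have hs : Function.Surjective (Spec.preimage y).hom := fun a => by
    obtain ⟨b, rfl⟩ := residue_surjective a
    exact ⟨_, RingHom.congr_fun h1 b⟩
  rw [← Spec.map_preimage y, Subsingleton.elim (α := PrimeSpectrum (ResidueField A)) z (closedPoint _)]
  haveI : IsLocalHom (Spec.preimage y).hom :=
    .of_surjective _ hs
  exact comap_closedPoint _

theorem locallyQuasiFinite_of_etale {X Y : Scheme.{u}} (g : X ⟶ Y) [Etale g] : LocallyQuasiFinite g := by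
  rw [HasRingHomProperty.iff_appLE (P := @LocallyQuasiFinite)]
  intro U V e
  algebraize [(g.appLE U V e).hom]
  haveI : Algebra.Etale Γ(Y, U) Γ(X, V) :=
    RingHom.etale_algebraMap.mp (g.etale_appLE U.2 V.2 e)
  exact RingHom.quasiFinite_algebraMap.mpr inferInstance

variable [IsAlgClosed (ResidueField A)]

theorem exists_kpoint {Y : Scheme.{u}} (f : Y ⟶ Spec (CommRingCat.of A)) [LocallyOfFiniteType f]
    [LocallyQuasiFinite f] (v : Y) (hv : f v = closedPoint A) :
    ∃ y : Spec (CommRingCat.of (ResidueField A)) ⟶ Y, y ≫ f = pt₀ A ∧ y (closedPoint _) = v := by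
  obtain ⟨z, hz1, -⟩ := Scheme.Pullback.exists_preimage_pullback (f := f) (g := pt₀ A) v
    (closedPoint (ResidueField A)) (by rw [hv, pt₀_apply])
  haveI : DiscreteTopology ↥(pullback f (pt₀ A)) := by
    have h := (pullback.snd f (pt₀ A)).isDiscrete_preimage_singleton (closedPoint (ResidueField A))
    have hu : pullback.snd f (pt₀ A) ⁻¹' {closedPoint (ResidueField A)} = Set.univ :=
      Set.eq_univ_of_forall fun _ => Subsingleton.elim (α := PrimeSpectrum (ResidueField A)) _ _
    rw [hu] at h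
    exact isDiscrete_univ_iff.mp h
  obtain ⟨⟨q, hq⟩, hq'⟩ := (pointEquivClosedPoint (pullback.snd f (pt₀ A))).surjective
    ⟨z, isClosed_discrete _⟩
  refine ⟨q ≫ pullback.fst _ _, ?_, ?_⟩
  · rw [Category.assoc, pullback.condition, reassoc_of% hq]
  · have : q (closedPoint (ResidueField A)) = z := congrArg Subtype.val hq'
    rw [Scheme.Hom.comp_apply, this, hz1]

theorem kpoint_ext {Y : Scheme.{u}} (f : Y ⟶ Spec (CommRingCat.of A)) [LocallyOfFiniteType f]
    {y y' : Spec (CommRingCat.of (ResidueField A)) ⟶ Y} (hy : y ≫ f = pt₀ A) (hy' : y' ≫ f = pt₀ A)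
    (h : y (closedPoint _) = y' (closedPoint _)) : y = y' := by
  let l := pullback.lift (f := f) (g := pt₀ A) y (𝟙 _) (by simp [hy])
  let l' := pullback.lift (f := f) (g := pt₀ A) y' (𝟙 _) (by simp [hy'])
  haveI : IsClosedImmersion (pullback.fst f (pt₀ A)) := MorphismProperty.pullback_fst _ _ inferInstance
  have hl : l = l' := by
    refine ext_of_apply_closedPoint_eq (pullback.snd f (pt₀ A)) (pullback.lift_snd _ _ _) (pullback.lift_snd _ _ _) ?_
    apply (pullback.fst f (pt₀ A)).isClosedEmbedding.injective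
    rw [← Scheme.Hom.comp_apply, ← Scheme.Hom.comp_apply]
    simpa [l, l'] using h
  simpa [l, l'] using congrArg (· ≫ pullback.fst f (pt₀ A)) hl

/-- Maps from a finite scheme over a local ring to an étale scheme agree if they agree on closed points. -/
theorem hom_ext_kpoints {Z Y X : Scheme.{u}} (f : Z ⟶ Spec (CommRingCat.of A)) [IsFinite f] (q : Y ⟶ X)
    [Etale q] (a b : Z ⟶ Y) (hq : a ≫ q = b ≫ q)
    (h : ∀ ζ : Spec (CommRingCat.of (ResidueField A)) ⟶ Z, ζ ≫ f = pt₀ A → ζ ≫ a = ζ ≫ b) : a = b := by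
  let d : Z ⟶ pullback q q := pullback.lift a b hq
  haveI : IsOpenImmersion (pullback.diagonal q) := inferInstance
  have hr : Set.range d ⊆ Set.range (pullback.diagonal q) := by
    rintro _ ⟨z, rfl⟩
    obtain ⟨z₀, hz₀, hz⟩ := exists_specializes_closedFibre f z
    obtain ⟨ζ, hζ, hζ'⟩ := exists_kpoint f z₀ hz₀
    refine (hz.map d.continuous).mem_open (pullback.diagonal q).isOpenEmbedding.isOpen_range ⟨(ζ ≫ a) (closedPoint _), ?_⟩
    have hd : ζ ≫ d = (ζ ≫ a) ≫ pullback.diagonal q := by
      refine pullback.hom_ext ?_ ?_ <;> simp [d, h ζ hζ]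
    rw [← hζ', ← Scheme.Hom.comp_apply, ← Scheme.Hom.comp_apply, hd]
  let e := IsOpenImmersion.lift (pullback.diagonal q) d hr
  have hed : e ≫ pullback.diagonal q = d := IsOpenImmersion.lift_fac _ _ _
  have h1 : e = a := by simpa [d] using congrArg (· ≫ pullback.fst q q) hed
  have h2 : e = b := by simpa [d] using congrArg (· ≫ pullback.snd q q) hed
  rw [← h1, ← h2]

variable [HenselianLocalRing A]

theorem exists_section_local {C : Type u} [CommRing C] [IsLocalRing C] (f : Spec (CommRingCat.of C) ⟶ Spec (CommRingCat.of A))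
    [IsFinite f] {D : Scheme.{u}} (q : D ⟶ Spec (CommRingCat.of C)) [Etale q]
    (η : Spec (CommRingCat.of (ResidueField A)) ⟶ D) (hη : η ≫ q ≫ f = pt₀ A) :
    ∃ s : Spec (CommRingCat.of C) ⟶ D, s ≫ q = 𝟙 _ ∧ η ≫ q ≫ s = η := by
  letI : Algebra A C := (Spec.preimage f).hom.toAlgebra
  haveI : Module.Finite A C := by
    have : IsFinite (Spec.map (Spec.preimage f)) := by rw [Spec.map_preimage]; infer_instance
    rw [IsFinite.SpecMap_iff] at this
    exact this
  haveI : HenselianLocalRing C := Groth.Agent.S0505.result A C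
  haveI : HenselianRing C (maximalIdeal C) := Hensel.henselianRing_maximalIdeal_iff.2 inferInstance
  let ψ := (Spec.preimage (η ≫ q)).hom
  have h1 : ψ.comp (Spec.preimage f).hom = residue A := by
    have : Spec.preimage f ≫ Spec.preimage (η ≫ q) = CommRingCat.ofHom (residue A) :=
      Spec.map_injective (by rw [Spec.map_comp, Spec.map_preimage, Spec.map_preimage, Category.assoc, hη])
    exact congrArg CommRingCat.Hom.hom this
  have hs : Function.Surjective ψ := fun a => by
    obtain ⟨b, rfl⟩ := residue_surjective a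
    exact ⟨_, RingHom.congr_fun h1 b⟩
  haveI : IsLocalHom ψ := .of_surjective _ hs
  let ψ' : ResidueField C →+* ResidueField A := ResidueField.lift ψ
  have hψ' : ψ'.comp (residue C) = ψ := ResidueField.lift_comp_residue ψ
  let e := RingEquiv.ofBijective ψ' ⟨ψ'.injective, fun a => by
    obtain ⟨c, rfl⟩ := hs a
    exact ⟨residue C c, RingHom.congr_fun hψ' c⟩⟩
  let qT := Spec.map (CommRingCat.ofHom e.symm.toRingHom) ≫ η
  have hqT : qT ≫ q = Spec.map (CommRingCat.ofHom (residue C)) := by
    show (_ ≫ η) ≫ q = _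
    rw [Category.assoc, ← Spec.map_preimage (η ≫ q), ← Spec.map_comp]
    congr 1
    ext c
    show e.symm (ψ c) = residue C c
    rw [RingEquiv.symm_apply_eq]
    exact (RingHom.congr_fun hψ' c).symm
  obtain ⟨s, hs₁, hs₂⟩ := EtaleSplit.exists_section_of_lift q qT hqT
  refine ⟨s, hs₁, ?_⟩
  have hη' : η = Spec.map (CommRingCat.ofHom e.toRingHom) ≫ qT := by
    show η = _ ≫ _ ≫ η
    rw [← Category.assoc, ← Spec.map_comp]
    have : CommRingCat.ofHom e.symm.toRingHom ≫ CommRingCat.ofHom e.toRingHom = 𝟙 _ := by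
      ext x; exact e.apply_symm_apply x
    rw [this, Spec.map_id, Category.id_comp]
  conv_lhs => rw [hη', Category.assoc, reassoc_of% hqT, hs₂]
  exact hη'.symm

/-- Lifts of closed points extend to a section. -/
theorem exists_section {X D : Scheme.{u}} (p : X ⟶ Spec (CommRingCat.of A)) [IsFinite p] (q : D ⟶ X) [Etale q]
    (η : ∀ ξ : Spec (CommRingCat.of (ResidueField A)) ⟶ X, ξ ≫ p = pt₀ A → (Spec (CommRingCat.of (ResidueField A)) ⟶ D))
    (hη : ∀ ξ hξ, η ξ hξ ≫ q = ξ) :
    ∃ σ : X ⟶ D, σ ≫ q = 𝟙 X ∧ ∀ ξ hξ, ξ ≫ σ = η ξ hξ := by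
  haveI : IsAffine X := isAffine_of_isAffineHom p
  let φ := Spec.preimage (X.isoSpec.inv ≫ p)
  letI : Algebra A Γ(X, ⊤) := φ.hom.toAlgebra
  haveI : Module.Finite A Γ(X, ⊤) := by
    have : IsFinite (Spec.map φ) := by rw [Spec.map_preimage]; infer_instance
    rw [IsFinite.SpecMap_iff] at this
    exact this
  obtain ⟨ι, _, C, _, hC, ⟨e⟩⟩ := Hensel.exists_pi_local_of_henselian A Γ(X, ⊤)
  let Θ : (∐ fun j => Spec (CommRingCat.of (C j))) ⟶ X :=
    sigmaSpec (fun j => CommRingCat.of (C j)) ≫ Spec.map (RingEquiv.toCommRingCatIso e).hom ≫ X.isoSpec.inv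
  let i : ∀ j, Spec (CommRingCat.of (C j)) ⟶ X := fun j => Sigma.ι (fun j => Spec (CommRingCat.of (C j))) j ≫ Θ
  haveI : ∀ j, IsClosedImmersion (i j) := fun j => by
    show IsClosedImmersion (Sigma.ι _ j ≫ sigmaSpec _ ≫ _)
    rw [ι_sigmaSpec_assoc]
    haveI : IsClosedImmersion (Spec.map (CommRingCat.ofHom (Pi.evalRingHom C j))) :=
      IsClosedImmersion.spec_of_surjective _ (Function.surjective_eval j)
    infer_instance
  haveI : ∀ j, IsFinite (i j ≫ p) := fun j => inferInstance
  have hy : ∀ j, ∃ y : Spec (CommRingCat.of (ResidueField A)) ⟶ Spec (CommRingCat.of (C j)), y ≫ i j ≫ p = pt₀ A := fun j => by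
    haveI := hC j
    obtain ⟨z, hz, -⟩ := exists_specializes_closedFibre (i j ≫ p) (closedPoint (C j))
    obtain ⟨y, hy, -⟩ := exists_kpoint (i j ≫ p) z hz
    exact ⟨y, hy⟩
  choose y hy using hy
  have hs : ∀ j, ∃ s : Spec (CommRingCat.of (C j)) ⟶ D, s ≫ q = i j ∧
      y j ≫ s = η (y j ≫ i j) ((Category.assoc _ _ _).trans (hy j)) := fun j => by
    haveI := hC j
    let ξ := η (y j ≫ i j) ((Category.assoc _ _ _).trans (hy j))
    let ξ' : Spec (CommRingCat.of (ResidueField A)) ⟶ pullback q (i j) := pullback.lift ξ (y j) (hη _ _)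
    obtain ⟨s, hs1, hs2⟩ := exists_section_local (i j ≫ p) (pullback.snd q (i j)) ξ' (by
      rw [← Category.assoc, pullback.lift_snd, hy])
    refine ⟨s ≫ pullback.fst _ _, ?_, ?_⟩
    · rw [Category.assoc, pullback.condition, reassoc_of% hs1]
    · have := congrArg (· ≫ pullback.fst q (i j)) hs2
      simp only [ξ', Category.assoc, pullback.lift_snd_assoc, pullback.lift_fst] at this
      exact this
  choose s hs1 hs2 using hs
  refine ⟨inv Θ ≫ Sigma.desc s, ?_, fun ξ hξ => ?_⟩
  · rw [Category.assoc, IsIso.inv_comp_eq, Category.comp_id]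
    apply Sigma.hom_ext
    intro j
    rw [Sigma.ι_desc_assoc, hs1]
  · obtain ⟨j, z, hz⟩ := (sigmaOpenCover (fun j => Spec (CommRingCat.of (C j)))).exists_eq ((inv Θ) (ξ (closedPoint _)))
    change Sigma.ι (fun j => Spec (CommRingCat.of (C j))) j z = _ at hz
    haveI := hC j
    have hz' : i j z = ξ (closedPoint _) := by
      show (Sigma.ι _ j ≫ Θ) z = _
      rw [Scheme.Hom.comp_apply, hz, ← Scheme.Hom.comp_apply, IsIso.inv_hom_id]
      rfl
    obtain ⟨y', hy', hy'z⟩ := exists_kpoint (i j ≫ p) z (by rw [Scheme.Hom.comp_apply, hz', kpoint_apply p hξ])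
    have hyy : y' = y j := kpoint_ext (i j ≫ p) hy' (hy j) (by
      rw [eq_closedPoint_of_kpoint _ hy', eq_closedPoint_of_kpoint _ (hy j)])
    have hξ' : ξ = y j ≫ i j := kpoint_ext p hξ ((Category.assoc _ _ _).trans (hy j))
      (by rw [← hyy, Scheme.Hom.comp_apply, hy'z, hz'])
    subst hξ'
    rw [← hs2]
    simp [i]

end Groth.Agent.QFinEtDesc
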