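import Groth.Agent.SteinConn.HenselConn
import Groth.Agent.ZMTFactorLib.Basic
import Groth.Agent.SchDesc.Germs
import Groth.Agent.QFinEtDesc.Points

/-! Sections of étale separated schemes over a proper scheme over a henselian local ring extend from the
closed fibre. -/

set_option autoImplicit false
set_option linter.style.haveILetI false
set_option backward.isDefEq.respectTransparency false
set_option backward.isDefEq.respectTransparency.types false

universe u
open CategoryTheory CategoryTheory.Limits AlgebraicGeometry IsLocalRing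

noncomputable section

namespace Groth.Agent.QFinEtDesc

/-- Clopen subsets of the closed fibre of a proper scheme over a henselian pair lift. -/
theorem exists_clopen_lift {A : Type u} [CommRing A] (I : Ideal A) [HenselianRing A I] {X : Scheme.{u}}
    (f : X ⟶ Spec (CommRingCat.of A)) [IsProper f]
    (C : Set ↥(pullback f (Spec.map (CommRingCat.ofHom (Ideal.Quotient.mk I))))) (hC : IsClopen C) :
    ∃ W : Set X, IsClopen W ∧ pullback.fst f (Spec.map (CommRingCat.ofHom (Ideal.Quotient.mk I))) ⁻¹' W = C := by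
  let j := Spec.map (CommRingCat.ofHom (Ideal.Quotient.mk I))
  haveI : IsAffine f.normalization := isAffine_of_isAffineHom f.fromNormalization
  let e := f.normalization.isoSpec
  let B := Γ(f.normalization, ⊤)
  let φ := Spec.preimage (e.inv ≫ f.fromNormalization)
  have hSφ : Spec.map φ = e.inv ≫ f.fromNormalization := Spec.map_preimage _
  have hint : φ.hom.IsIntegral := by
    rw [← IsIntegralHom.SpecMap_iff, hSφ]
    infer_instance
  let τ := f.toNormalization ≫ e.hom
  have hτ : τ ≫ Spec.map φ = f := by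
    rw [hSφ, Category.assoc, Iso.hom_inv_id_assoc, f.toNormalization_fromNormalization]
  haveI : Surjective f.toNormalization :=
    SteinConn.surjective_of_bijApp _ (SteinConn.bijApp_toNormalization f)
  haveI := SteinConn.geometricallyConnected_toNormalization' f
  haveI : IsProper τ := inferInstanceAs (IsProper (f.toNormalization ≫ e.hom))
  haveI : Surjective τ := inferInstanceAs (Surjective (f.toNormalization ≫ e.hom))
  haveI : GeometricallyConnected τ :=
    (MorphismProperty.cancel_right_of_respectsIso @GeometricallyConnected _ e.hom).2 inferInstance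
  let π := pullback.fst (Spec.map φ) j
  let τ₀ := pullback.snd τ π
  haveI : IsProper τ₀ := MorphismProperty.pullback_snd _ _ inferInstance
  haveI : Surjective τ₀ := MorphismProperty.pullback_snd _ _ inferInstance
  haveI : GeometricallyConnected τ₀ := MorphismProperty.pullback_snd _ _ inferInstance
  let i : pullback τ π ≅ pullback f j :=
    pullbackRightPullbackFstIso (Spec.map φ) j τ ≪≫ pullback.congrHom hτ rfl
  have hi : i.hom ≫ pullback.fst f j = pullback.fst τ π := by
    simp [i]; rfl
  let C' : Set ↥(pullback τ π) := i.hom ⁻¹' C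
  have hC' : IsClopen C' := hC.preimage i.hom.continuous
  have hfib : ∀ x ∈ C', τ₀ ⁻¹' {τ₀ x} ⊆ C' := fun x hx => by
    haveI : ConnectedSpace ↥(τ₀.fiber (τ₀ x)) := inferInstance
    have hc : _root_.IsPreconnected (τ₀ ⁻¹' {τ₀ x}) := by
      rw [← Scheme.Hom.range_fiberι]
      exact isPreconnected_range (τ₀.fiberι (τ₀ x)).continuous
    exact hc.subset_isClopen hC' ⟨x, rfl, hx⟩
  have hsat : τ₀ ⁻¹' (τ₀ '' C') = C' :=
    Set.Subset.antisymm (fun y ⟨x, hx, hxy⟩ => hfib x hx hxy.symm) (Set.subset_preimage_image _ _)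
  have hT : IsClopen (τ₀ '' C') := by
    refine ⟨τ₀.isClosedMap _ hC'.1, isClosed_compl_iff.1 ?_⟩
    rw [show (τ₀ '' C')ᶜ = τ₀ '' C'ᶜ by
      ext y
      obtain ⟨x, rfl⟩ := τ₀.surjective y
      refine ⟨fun h => ⟨x, fun hx => h ⟨x, hx, rfl⟩, rfl⟩, ?_⟩
      rintro ⟨a, ha, hax⟩ hb
      exact ha (hsat.le (show τ₀ a ∈ τ₀ '' C' by rw [hax]; exact hb))]
    exact τ₀.isClosedMap _ hC'.compl.1
  -- clopens of the integral scheme
  algebraize [φ.hom]
  let q := PrimeSpectrum.comap (Ideal.Quotient.mk (I.map (algebraMap A B)))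
  have hq : Topology.IsEmbedding q :=
    (PrimeSpectrum.isClosedEmbedding_comap_of_surjective _ _ Ideal.Quotient.mk_surjective).isEmbedding
  haveI : IsClosedImmersion j := IsClosedImmersion.spec_of_surjective _ Ideal.Quotient.mk_surjective
  haveI : IsClosedImmersion π := MorphismProperty.pullback_fst _ _ inferInstance
  have hrange : Set.range π = Set.range q := by
    rw [range_comap_of_surjective _ _ Ideal.Quotient.mk_surjective, Ideal.mk_ker,
      Scheme.Pullback.range_fst]
    show PrimeSpectrum.comap φ.hom ⁻¹' Set.range (PrimeSpectrum.comap (Ideal.Quotient.mk I)) = _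
    rw [range_comap_of_surjective _ _ Ideal.Quotient.mk_surjective, Ideal.mk_ker,
      PrimeSpectrum.preimage_comap_zeroLocus]
    exact (PrimeSpectrum.zeroLocus_span _).symm
  let h := (π.isClosedEmbedding.isEmbedding.toHomeomorph.trans (Homeomorph.setCongr hrange)).trans
    hq.toHomeomorph.symm
  have hh : ∀ a, q (h a) = π a := fun a => by
    simp only [h, Homeomorph.trans_apply]
    exact congrArg Subtype.val (hq.toHomeomorph.apply_symm_apply _)
  obtain ⟨ē, hē, hs⟩ := PrimeSpectrum.isClopen_iff.mp (hT.preimage h.symm.continuous)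
  obtain ⟨b, hb, hbe⟩ := (Hensel.bijOn_idempotent (A := A) (I := I) B).surjOn hē
  refine ⟨τ ⁻¹' (PrimeSpectrum.basicOpen b : Set (PrimeSpectrum B)),
    (PrimeSpectrum.isClopen_iff.mpr ⟨b, hb, rfl⟩).preimage τ.continuous, ?_⟩
  have hmem : ∀ a, (π a ∈ (PrimeSpectrum.basicOpen b : Set (PrimeSpectrum B)) ↔ a ∈ τ₀ '' C') := fun a => by
    have h1 : h a ∈ (PrimeSpectrum.basicOpen ē : Set (PrimeSpectrum _)) ↔ a ∈ τ₀ '' C' := by
      rw [← hs, Set.mem_preimage, h.symm_apply_apply]
    rw [← h1, ← hh, ← hbe]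
    rfl
  ext y
  obtain ⟨x, rfl⟩ := i.hom.surjective y
  show τ (pullback.fst f j (i.hom x)) ∈ (PrimeSpectrum.basicOpen b : Set (PrimeSpectrum B)) ↔ x ∈ C'
  rw [← Scheme.Hom.comp_apply i.hom, hi, ← Scheme.Hom.comp_apply _ τ, pullback.condition, Scheme.Hom.comp_apply,
    hmem]
  exact ⟨fun hx => hsat.le hx, fun hx => ⟨x, hx, rfl⟩⟩

variable {A : Type u} [CommRing A] [IsLocalRing A]

/-- Morphisms to an étale scheme agreeing on the closed fibre agree. -/
theorem hom_ext_closedFibre {Z Y X : Scheme.{u}} (f : Z ⟶ Spec (CommRingCat.of A)) [UniversallyClosed f]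
    (q : Y ⟶ X) [Etale q] (a b : Z ⟶ Y) (hq : a ≫ q = b ≫ q)
    (h : pullback.fst f (pt₀ A) ≫ a = pullback.fst f (pt₀ A) ≫ b) : a = b := by
  let d : Z ⟶ pullback q q := pullback.lift a b hq
  haveI : IsOpenImmersion (pullback.diagonal q) := inferInstance
  have hr : Set.range d ⊆ Set.range (pullback.diagonal q) := by
    rintro _ ⟨z, rfl⟩
    obtain ⟨z₀, hz₀, hz⟩ := exists_specializes_closedFibre f z
    obtain ⟨w, hw, -⟩ := Scheme.Pullback.exists_preimage_pullback (f := f) (g := pt₀ A) z₀
      (closedPoint (ResidueField A)) (by rw [hz₀, pt₀_apply])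
    refine (hz.map d.continuous).mem_open (pullback.diagonal q).isOpenEmbedding.isOpen_range
      ⟨(pullback.fst f (pt₀ A) ≫ a) w, ?_⟩
    have hd : pullback.fst f (pt₀ A) ≫ d = (pullback.fst f (pt₀ A) ≫ a) ≫ pullback.diagonal q := by
      refine pullback.hom_ext ?_ ?_ <;> simp [d, h]
    rw [← hw, ← Scheme.Hom.comp_apply, ← Scheme.Hom.comp_apply, hd]
  let e := IsOpenImmersion.lift (pullback.diagonal q) d hr
  have hed : e ≫ pullback.diagonal q = d := IsOpenImmersion.lift_fac _ _ _
  have h1 : e = a := by simpa [d] using congrArg (· ≫ pullback.fst q q) hed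
  have h2 : e = b := by simpa [d] using congrArg (· ≫ pullback.snd q q) hed
  rw [← h1, ← h2]

/-- A section over the closed fibre extends. -/
theorem exists_section_proper [HenselianLocalRing A] {X D : Scheme.{u}} (p : X ⟶ Spec (CommRingCat.of A))
    [IsProper p] (q : D ⟶ X) [Etale q] [IsSeparated q] (τ : pullback p (pt₀ A) ⟶ D)
    (hτ : τ ≫ q = pullback.fst p (pt₀ A)) :
    ∃ σ : X ⟶ D, σ ≫ q = 𝟙 X ∧ pullback.fst p (pt₀ A) ≫ σ = τ := by
  haveI : HenselianRing A (maximalIdeal A) := Hensel.henselianRing_maximalIdeal_iff.2 inferInstance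
  let i := pullback.fst p (pt₀ A)
  haveI : CompactSpace ↥(pullback p (pt₀ A)) := QuasiCompact.compactSpace_of_compactSpace (pullback.snd p (pt₀ A))
  haveI : CompactSpace ↥X := QuasiCompact.compactSpace_of_compactSpace p
  haveI : QuasiSeparatedSpace ↥X := quasiSeparatedSpace_of_quasiSeparated p
  obtain ⟨K, hK, -, hKc⟩ := SchDesc.exists_qc_nb (E := Set.range τ) (isCompact_range τ.continuous) ⊤ (fun _ _ => trivial)
  let τ₀ : pullback p (pt₀ A) ⟶ (K : Scheme.{u}) := IsOpenImmersion.lift K.ι τ (by rwa [Scheme.Opens.range_ι])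
  have hτ₀ : τ₀ ≫ K.ι = τ := IsOpenImmersion.lift_fac _ _ _
  haveI : CompactSpace ↥(K : Scheme.{u}) := isCompact_iff_compactSpace.mp hKc
  let q₀ := K.ι ≫ q
  haveI : QuasiCompact q₀ := quasiCompact_of_compactSpace _
  haveI : LocallyQuasiFinite q₀ := locallyQuasiFinite_of_etale q₀
  haveI : LocallyOfFiniteType (q₀.toNormalization ≫ q₀.fromNormalization) := by
    rw [Scheme.Hom.toNormalization_fromNormalization]; infer_instance
  obtain ⟨T, qq, g, hg, hqg, ho, -⟩ := ZMTFactorLib.exists_finite_factor q₀.fromNormalization q₀.toNormalization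
  haveI := hg
  let u := q₀.toNormalization ≫ qq
  haveI : IsOpenImmersion u := ho
  have hug : u ≫ g = q₀ := by rw [Category.assoc, hqg, Scheme.Hom.toNormalization_fromNormalization]
  let f := g ≫ p
  haveI : IsProper f := inferInstanceAs (IsProper (g ≫ p))
  -- the closed fibre of the section in the compactification
  let g₀ := pullback.snd g i
  let l : pullback p (pt₀ A) ⟶ pullback g i := pullback.lift (τ₀ ≫ u) (𝟙 _)
    (by rw [Category.assoc, hug, reassoc_of% hτ₀, hτ, Category.id_comp])
  haveI : IsClosedImmersion l := by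
    haveI : IsClosedImmersion (l ≫ pullback.snd g i) := by rw [pullback.lift_snd]; infer_instance
    exact IsClosedImmersion.of_comp l (pullback.snd g i)
  haveI : IsOpenImmersion l := by
    let l' : pullback p (pt₀ A) ⟶ pullback q₀ i := pullback.lift τ₀ (𝟙 _) (by rw [Category.id_comp, reassoc_of% hτ₀, hτ])
    haveI : Etale l' := by
      haveI : Etale (pullback.snd q₀ i) := MorphismProperty.pullback_snd _ _ inferInstance
      haveI : Etale (l' ≫ pullback.snd q₀ i) := by rw [pullback.lift_snd]; infer_instance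
      exact Etale.of_comp l' (pullback.snd q₀ i)
    haveI : IsSplitMono l' := ⟨⟨⟨pullback.snd q₀ i, pullback.lift_snd _ _ _⟩⟩⟩
    haveI : IsOpenImmersion l' := IsOpenImmersion.of_flat_of_mono l'
    let u₀ : pullback q₀ i ⟶ pullback g i := pullback.map _ _ _ _ u (𝟙 _) (𝟙 _) (by simp [hug]) (by simp)
    haveI : IsOpenImmersion u₀ := inferInstance
    have : l = l' ≫ u₀ := by refine pullback.hom_ext ?_ ?_ <;> simp [l, l', u₀]
    rw [this]; infer_instance
  let E : pullback g i ≅ pullback f (pt₀ A) := pullbackRightPullbackFstIso p (pt₀ A) g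
  have hE : E.hom ≫ pullback.fst f (pt₀ A) = pullback.fst g i := by simp [E, f]; rfl
  obtain ⟨W, hW, hWl⟩ := exists_clopen_lift (maximalIdeal A) f (Set.range (l ≫ E.hom))
    ⟨(l ≫ E.hom).isClosedEmbedding.isClosed_range, (l ≫ E.hom).isOpenEmbedding.isOpen_range⟩
  change pullback.fst f (pt₀ A) ⁻¹' W = _ at hWl
  have hlift : ∀ t ∈ W, f t = closedPoint A → ∃ x₀, (l ≫ pullback.fst g i) x₀ = t := fun t ht htc => by
    obtain ⟨w, hw, -⟩ := Scheme.Pullback.exists_preimage_pullback (f := f) (g := pt₀ A) t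
      (closedPoint (ResidueField A)) (by rw [htc, pt₀_apply])
    obtain ⟨x₀, hx₀⟩ : w ∈ Set.range (l ≫ E.hom) := hWl.le (show pullback.fst f (pt₀ A) w ∈ W by rw [hw]; exact ht)
    exact ⟨x₀, by rw [← hE, ← Category.assoc, Scheme.Hom.comp_apply, hx₀, hw]⟩
  have hWu : W ⊆ Set.range u := by
    intro t ht
    by_contra htu
    have hcl : IsClosed (W \ Set.range u) := hW.1.sdiff u.isOpenEmbedding.isOpen_range
    have h2 : closedPoint A ∈ f '' (W \ Set.range u) :=
      (specializes_closedPoint (f t)).mem_closed (f.isClosedMap _ hcl) ⟨t, ⟨ht, htu⟩, rfl⟩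
    obtain ⟨t', ⟨ht', htu'⟩, htc⟩ := h2
    obtain ⟨x₀, rfl⟩ := hlift t' ht' htc
    exact htu' ⟨τ₀ x₀, by rw [← Scheme.Hom.comp_apply]; simp [l]⟩
  let Wo : T.Opens := ⟨W, hW.2⟩
  haveI : IsClosedImmersion Wo.ι := IsClosedImmersion.of_isPreimmersion _ (by rw [Scheme.Opens.range_ι]; exact hW.1)
  let φ := Wo.ι ≫ g
  let k : (Wo : Scheme.{u}) ⟶ (K : Scheme.{u}) := IsOpenImmersion.lift u Wo.ι (by rw [Scheme.Opens.range_ι]; exact hWu)
  have hk : k ≫ u = Wo.ι := IsOpenImmersion.lift_fac _ _ _
  haveI : IsOpenImmersion k := by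
    haveI : IsOpenImmersion (k ≫ u) := by rw [hk]; infer_instance
    exact IsOpenImmersion.of_comp k u
  haveI : Etale φ := by
    rw [show φ = k ≫ q₀ by rw [← hug, reassoc_of% hk]]
    infer_instance
  haveI : IsFinite φ := inferInstance
  -- over the closed fibre `φ` is an isomorphism
  let lW : pullback p (pt₀ A) ⟶ pullback φ i := pullback.lift
    (IsOpenImmersion.lift Wo.ι (l ≫ pullback.fst g i) (by
      rintro _ ⟨x₀, rfl⟩
      rw [Scheme.Opens.range_ι]
      show (l ≫ pullback.fst g i) x₀ ∈ W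
      rw [← hE, ← Category.assoc, Scheme.Hom.comp_apply]
      exact hWl.ge ⟨x₀, rfl⟩)) (𝟙 _)
    (by rw [show φ = Wo.ι ≫ g from rfl, IsOpenImmersion.lift_fac_assoc, Category.assoc, pullback.condition,
      pullback.lift_snd_assoc])
  haveI : Etale lW := by
    haveI : Etale (pullback.snd φ i) := MorphismProperty.pullback_snd _ _ inferInstance
    haveI : Etale (lW ≫ pullback.snd φ i) := by rw [pullback.lift_snd]; infer_instance
    exact Etale.of_comp lW (pullback.snd φ i)
  haveI : IsSplitMono lW := ⟨⟨⟨pullback.snd φ i, pullback.lift_snd _ _ _⟩⟩⟩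
  haveI : IsOpenImmersion lW := IsOpenImmersion.of_flat_of_mono lW
  haveI : Surjective lW := ⟨fun w => by
    obtain ⟨x₀, hx₀⟩ := hlift (Wo.ι (pullback.fst φ i w)) (pullback.fst φ i w).2 (by
      have h1 : (pullback.fst φ i ≫ Wo.ι) ≫ f = (pullback.snd φ i ≫ pullback.snd p (pt₀ A)) ≫ pt₀ A := by
        simp only [f, Category.assoc, ← pullback.condition, φ]
        exact pullback.condition_assoc p
      refine Eq.trans ?_ (pt₀_apply ((pullback.snd φ i ≫ pullback.snd p (pt₀ A)) w))
      exact congrArg (fun k => k w) h1)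
    refine ⟨x₀, ?_⟩
    haveI : IsClosedImmersion (pullback.fst φ i) := MorphismProperty.pullback_fst _ _ inferInstance
    apply (pullback.fst φ i).isClosedEmbedding.injective
    apply Wo.ι.isOpenEmbedding.injective
    rw [← Scheme.Hom.comp_apply, ← Scheme.Hom.comp_apply, pullback.lift_fst_assoc, IsOpenImmersion.lift_fac]
    exact hx₀⟩

  haveI : IsIso lW := (isIso_iff_isOpenImmersion_and_surjective _).mpr ⟨inferInstance, inferInstance⟩
  haveI : Mono (pullback.snd φ i) := by
    rw [show pullback.snd φ i = inv lW from IsIso.eq_inv_of_hom_inv_id (pullback.lift_snd _ _ _)]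
    infer_instance
  haveI hmono : Mono φ := ⟨fun {R} a b hab => by
    let z : R ⟶ pullback φ φ := pullback.lift a b hab
    have hfs : pullback.fst φ φ = pullback.snd φ φ := by
      refine hom_ext_closedFibre ((pullback.fst φ φ ≫ φ) ≫ p) φ _ _ pullback.condition ?_
      let Z₀ := pullback ((pullback.fst φ φ ≫ φ) ≫ p) (pt₀ A)
      let x₀ : Z₀ ⟶ pullback p (pt₀ A) := pullback.lift (pullback.fst _ _ ≫ pullback.fst φ φ ≫ φ) (pullback.snd _ _)
        (by rw [← pullback.condition]; simp)
      have h1 : pullback.lift (pullback.fst _ _ ≫ pullback.fst φ φ) x₀ (by simp [x₀, i]) =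
          pullback.lift (f := φ) (g := i) (pullback.fst ((pullback.fst φ φ ≫ φ) ≫ p) (pt₀ A) ≫ pullback.snd φ φ) x₀
            (by simp [x₀, i, pullback.condition]) := by
        rw [← cancel_mono (pullback.snd φ i), pullback.lift_snd, pullback.lift_snd]
      simpa using congrArg (· ≫ pullback.fst φ i) h1
    calc a = z ≫ pullback.fst φ φ := (pullback.lift_fst _ _ _).symm
      _ = b := by rw [hfs, pullback.lift_snd]⟩
  haveI : IsOpenImmersion φ := IsOpenImmersion.of_flat_of_mono φ
  haveI : Surjective φ := ⟨fun x => by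
    by_contra hx
    have hcl : IsClosed (Set.range φ)ᶜ := φ.isOpenEmbedding.isOpen_range.isClosed_compl
    obtain ⟨x', hx', hxc⟩ : closedPoint A ∈ p '' (Set.range φ)ᶜ :=
      (specializes_closedPoint (p x)).mem_closed (p.isClosedMap _ hcl) ⟨x, fun ⟨w, hw⟩ => hx ⟨w, hw⟩, rfl⟩
    obtain ⟨x₀, hx₀, -⟩ := Scheme.Pullback.exists_preimage_pullback (f := p) (g := pt₀ A) x'
      (closedPoint (ResidueField A)) (by rw [hxc, pt₀_apply])
    refine hx' ⟨pullback.fst φ i (lW x₀), ?_⟩
    rw [← Scheme.Hom.comp_apply, ← Scheme.Hom.comp_apply, pullback.condition, pullback.lift_snd_assoc,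
      Category.id_comp]
    exact hx₀⟩
  haveI : IsIso φ := (isIso_iff_isOpenImmersion_and_surjective _).mpr ⟨inferInstance, inferInstance⟩
  refine ⟨inv φ ≫ k ≫ K.ι, ?_, ?_⟩
  · rw [Category.assoc, Category.assoc, show K.ι ≫ q = q₀ from rfl, ← hug, reassoc_of% hk]
    exact IsIso.inv_hom_id φ
  · have h1 : i = (lW ≫ pullback.fst φ i) ≫ φ := by rw [Category.assoc, pullback.condition, pullback.lift_snd_assoc, Category.id_comp]
    have h2 : (lW ≫ pullback.fst φ i) ≫ k = τ₀ := by
      rw [← cancel_mono u, Category.assoc, hk, pullback.lift_fst, IsOpenImmersion.lift_fac, pullback.lift_fst]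
    show i ≫ _ = τ
    rw [h1, Category.assoc, IsIso.hom_inv_id_assoc, ← Category.assoc, h2, hτ₀]

end Groth.Agent.QFinEtDesc
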