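import Groth.Agent.QFinEtDesc.Main
import Groth.Agent.QuasiSecLib.Section
import Groth.Agent.ChevalleyOpen.Comps
import Groth.Agent.TopDimLib.Basic
import Groth.Agent.DimFormulaLib.Misc
import Groth.Agent.SubmEtLib.Effective

/-! Étale descent data along finite type universally open surjections are effective. -/

set_option autoImplicit false
set_option linter.style.haveILetI false
set_option backward.isDefEq.respectTransparency false
set_option backward.isDefEq.respectTransparency.types false

universe u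
open CategoryTheory CategoryTheory.Limits AlgebraicGeometry TopologicalSpace

noncomputable section

namespace Groth.Agent.QFinEtDesc

open Groth.Agent.SchDesc Groth.Agent.SubmEtSpread
open _root_.Desc (SchDD SchDDFam toDDFam pullDDFam)

/-- A closed point of a scheme of finite type over a field at which the local dimension is that of a component. -/
theorem exists_point_max_dim {k : Type u} [Field k] {F : Scheme.{u}} (π : F ⟶ Spec (CommRingCat.of k))
    [LocallyOfFiniteType π] [QuasiCompact π] [Nonempty F] :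
    ∃ z x : F, z ⤳ x ∧ IsClosed ({x} : Set F) ∧
      FlatMor.localDim ↥F x = topologicalKrullDim ↥(closure ({z} : Set F)) := by
  haveI : IsLocallyNoetherian F := LocallyOfFiniteType.isLocallyNoetherian π
  haveI : CompactSpace ↥F := QuasiCompact.compactSpace_of_compactSpace π
  haveI : IsNoetherian F := ⟨⟩
  haveI hfin : Finite (irreducibleComponents ↥F) :=
    (NoetherianSpace.finite_irreducibleComponents (α := ↥F)).to_subtype
  haveI : Nonempty (irreducibleComponents ↥F) :=
    ⟨⟨_, irreducibleComponent_mem_irreducibleComponents (Classical.arbitrary ↥F)⟩⟩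
  obtain ⟨⟨Z, hZ⟩, hmax⟩ := Finite.exists_max
    (fun Z : irreducibleComponents ↥F => topologicalKrullDim ↥(Z : Set ↥F))
  have hZc := isClosed_of_mem_irreducibleComponents Z hZ
  obtain ⟨z, hz⟩ : ∃ z, closure ({z} : Set ↥F) = Z := ⟨_, hZ.1.isGenericPoint_genericPoint hZc⟩
  obtain ⟨x, hx, hxc⟩ := hZc.exists_closed_singleton hZ.1.nonempty
  refine ⟨z, x, specializes_iff_mem_closure.2 (by rwa [hz]), hxc, ?_⟩
  have hdim : topologicalKrullDim ↥F ≤ topologicalKrullDim ↥(closure ({z} : Set F)) := by
    rw [TopDimLib.topologicalKrullDim_eq_iSup_closed (fun W : irreducibleComponents ↥F => (W : Set ↥F))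
      (fun W => isClosed_of_mem_irreducibleComponents _ W.2) (locallyFinite_of_finite _)
      (Set.eq_univ_of_forall fun y => Set.mem_iUnion.2
        ⟨⟨_, irreducibleComponent_mem_irreducibleComponents y⟩, mem_irreducibleComponent⟩), hz]
    exact iSup_le hmax
  refine le_antisymm (le_trans ?_ hdim) ?_
  · refine iInf_le_of_le ⟨⊤, trivial⟩ ?_
    exact topologicalKrullDim_subspace_le _ _
  · rw [← ChevalleyOpen.localDim_eq_of_max π z (fun w hw => ?_)]
    · exact DimFormulaLib.localDim_le_of_specializes (specializes_iff_mem_closure.2 (by rwa [hz]))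
    · have h1 : closure ({z} : Set ↥F) ≤ closure {w} :=
        closure_minimal (Set.singleton_subset_iff.2 (specializes_iff_mem_closure.1 hw)) isClosed_closure
      have h2 : closure ({w} : Set ↥F) ≤ Z := hZ.2 isIrreducible_singleton.closure (hz ▸ h1)
      exact (hw.antisymm (specializes_iff_mem_closure.2 (hz.symm ▸ h2 (subset_closure rfl)))).eq

theorem univSubmersive_of_open {X Y : Scheme.{u}} (p : X ⟶ Y) [UniversallyOpen p] [Surjective p] :
    SGA1.UnivSubmersive p := by
  intro X' Y' i₁ i₂ p' hsq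
  haveI : UniversallyOpen p' := MorphismProperty.of_isPullback hsq.flip inferInstance
  haveI : Surjective p' := MorphismProperty.of_isPullback hsq.flip inferInstance
  exact p'.isOpenMap.isQuotientMap p'.continuous p'.surjective

variable {S S' : Scheme.{u}} (g : S' ⟶ S)

/-- Effectivity from a refinement of the pulled back cover. -/
theorem effAt_of_refine (D : SchDDFam (fun _ : PUnit.{1} => g)) [Etale (D.obj PUnit.unit).hom] {P T : Scheme.{u}}
    (b : P ⟶ S) (h : T ⟶ pullback g b) (hT : SGA1.UnivSubmersive (h ≫ pullback.snd g b))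
    (Q : Quot (pull (pull ((_root_.Desc.SchDDFam.toSchDD g).obj D) (pullback.fst g b) pullback.condition) h
      (Category.comp_id (h ≫ pullback.snd g b)).symm) ⊤) [Etale Q.str] : EffAt D b := by
  let D₀ := (_root_.Desc.SchDDFam.toSchDD g).obj D
  haveI : Etale D₀.obj.hom := ‹Etale (D.obj PUnit.unit).hom›
  let D₁ := pull D₀ (pullback.fst g b) (pullback.condition (f := g) (g := b))
  haveI : Etale D₁.obj.hom := MorphismProperty.of_isPullback (isPullback_pull D₀ _ _) ‹Etale D₀.obj.hom›
  obtain ⟨Q₁, hQ₁⟩ := quot_of_pull_refine (D := D₁) h hT Q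
  obtain ⟨π, hπ⟩ := isQuot_of_quot_pull (D := D₀) (f := b) Q₁
  exact (effAt_iff D b).2 ⟨_, Q₁.str, π, hQ₁, hπ⟩

theorem quot_top_of_effective {X P : Scheme.{u}} {p : X ⟶ P} (D : SchDD p) {U : Over P} [Etale U.hom]
    (e : (_root_.Desc.toDD p).obj U ≅ D) : ∃ Q : Quot D ⊤, Etale Q.str := by
  haveI : IsOpenImmersion (𝟙 D : D ⟶ D).hom.left := inferInstanceAs (IsOpenImmersion (𝟙 D.obj.left))
  obtain ⟨Q, hQ, hQ'⟩ := SubmEtLib.quot_of_openImmersion_str (𝟙 D) U e
  haveI : Etale Q.str := by rw [hQ']; infer_instance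
  have htop : (𝟙 D : D ⟶ D).hom.left.opensRange = (⊤ : D.obj.left.Opens) := by
    refine TopologicalSpace.Opens.ext (Set.eq_univ_of_forall fun z => ⟨z, rfl⟩)
  revert Q
  rw [htop]
  intro Q _ _ hQe
  exact ⟨Q, hQe⟩

theorem effective_of_universallyOpen [IsLocallyNoetherian S] [LocallyOfFiniteType g] [QuasiCompact g] [Surjective g]
    [UniversallyOpen g] (D : SchDD g) [QuasiCompact D.obj.hom] [IsSeparated D.obj.hom] [Etale D.obj.hom] :
    ∃ U : Over S, QuasiCompact U.hom ∧ IsSeparated U.hom ∧ Etale U.hom ∧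
      Nonempty ((_root_.Desc.toDD g).obj U ≅ D) := by
  have hg : SGA1.UnivSubmersive g := univSubmersive_of_open g
  haveI := LocallyOfFiniteType.isLocallyNoetherian g
  haveI : QuasiSeparated g := inferInstance
  haveI := lfp_of_noetherian g
  let Df := (_root_.Desc.SchDDFam.ofSchDD g).obj D
  haveI : Etale (Df.obj PUnit.unit).hom := ‹Etale D.obj.hom›
  haveI : QuasiCompact (Df.obj PUnit.unit).hom := ‹QuasiCompact D.obj.hom›
  haveI : IsSeparated (Df.obj PUnit.unit).hom := ‹IsSeparated D.obj.hom›
  have key : ∀ s : S, ∃ V : S.Opens, s ∈ V ∧ EffAt Df V.ι := by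
    intro s
    haveI : Nonempty ↥(g.fiber s) := by
      obtain ⟨x, hx⟩ := g.surjective s
      exact ⟨(g.fiberHomeo s).symm ⟨x, hx⟩⟩
    haveI : LocallyOfFiniteType (g.fiberToSpecResidueField s) := MorphismProperty.pullback_snd _ _ inferInstance
    haveI : QuasiCompact (g.fiberToSpecResidueField s) := MorphismProperty.pullback_snd _ _ inferInstance
    obtain ⟨z₀, x₀, hzx, hxc, hdim⟩ := exists_point_max_dim (g.fiberToSpecResidueField s)
    let e := g.fiberHomeo s
    have hxcl : IsClosed ((Subtype.val : ↥(g.base ⁻¹' {s}) → S') ⁻¹' {(e x₀).1}) := by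
      have h : (Subtype.val : ↥(g.base ⁻¹' {s}) → S') ⁻¹' {(e x₀).1} = e '' {x₀} := by
        rw [Set.image_singleton]
        ext w
        exact ⟨fun hw => Subtype.ext hw, fun hw => congrArg Subtype.val hw⟩
      rw [h]
      exact e.isClosed_image.2 hxc
    have hdim' : FlatMor.localDim ↥(g.base ⁻¹' {s}) ⟨(e x₀).1, (e x₀).2⟩ =
        topologicalKrullDim ↥(e '' closure {z₀}) := by
      haveI : QuasiSober ↥(g.base ⁻¹' {s}) := e.symm.isClosedEmbedding.quasiSober
      have h1 := FibreDimEt.localDim_eq_of_isGenLift (FibreDimEt.isGenLift_of_isOpenEmbedding e.isOpenEmbedding)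
        e.isOpenMap x₀
      rw [← IsHomeomorph.topologicalKrullDim_eq _ (e.image (closure {z₀})).isHomeomorph, ← hdim]
      exact h1.symm
    obtain ⟨P, T, hP, w, π, h, hw, hfin, hsurj, hlfp, hcomm, t, ht, -⟩ :=
      QuasiSecLib.exists_quasiSection g s (e x₀).1 (e x₀).2 hxcl (e '' closure {z₀})
        (e.isClosed_image.2 isClosed_closure) ⟨e x₀, ⟨x₀, specializes_iff_mem_closure.1 hzx, rfl⟩, rfl⟩
        (e z₀).1 ⟨⟨e z₀, ⟨z₀, subset_closure rfl, rfl⟩, rfl⟩, by
          rintro _ ⟨_, ⟨y, hy, rfl⟩, rfl⟩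
          exact specializes_iff_mem_closure.1
            ((specializes_iff_mem_closure.2 hy).map (continuous_subtype_val.comp e.continuous))⟩
        (UnivOpenAtLib.universallyOpen_iff_forall.1 inferInstance _) hdim'
    haveI := hw; haveI := hfin; haveI := hsurj; haveI := hP
    haveI : IsLocallyNoetherian P := LocallyOfFiniteType.isLocallyNoetherian w
    let l : T ⟶ pullback g w := pullback.lift h π hcomm
    have hl : l ≫ pullback.snd g w = π := pullback.lift_snd _ _ _
    haveI : IsFinite (l ≫ pullback.snd g w) := by rw [hl]; exact hfin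
    haveI : Surjective (l ≫ pullback.snd g w) := by rw [hl]; exact hsurj
    let D₁ := pull ((_root_.Desc.SchDDFam.toSchDD g).obj Df) (pullback.fst g w) (pullback.condition (f := g) (g := w))
    haveI : Etale D₁.obj.hom := MorphismProperty.of_isPullback (isPullback_pull _ _ _) ‹Etale D.obj.hom›
    haveI : QuasiCompact D₁.obj.hom := MorphismProperty.of_isPullback (isPullback_pull _ _ _) ‹QuasiCompact D.obj.hom›
    haveI : IsSeparated D₁.obj.hom := MorphismProperty.of_isPullback (isPullback_pull _ _ _) ‹IsSeparated D.obj.hom›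
    let D₂ := pull D₁ l (Category.comp_id (l ≫ pullback.snd g w)).symm
    haveI : Etale D₂.obj.hom := MorphismProperty.of_isPullback (isPullback_pull _ _ _) ‹Etale D₁.obj.hom›
    haveI : QuasiCompact D₂.obj.hom := MorphismProperty.of_isPullback (isPullback_pull _ _ _) ‹QuasiCompact D₁.obj.hom›
    haveI : IsSeparated D₂.obj.hom := MorphismProperty.of_isPullback (isPullback_pull _ _ _) ‹IsSeparated D₁.obj.hom›
    obtain ⟨U, -, -, hU, ⟨i⟩⟩ := effective_of_quasiFinite (l ≫ pullback.snd g w)
      (univSubmersive_of_closed _) D₂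
    haveI := hU
    obtain ⟨Q, hQ⟩ := quot_top_of_effective D₂ i
    haveI := hQ
    have H : EffAt Df w := effAt_of_refine g Df w l (univSubmersive_of_closed _) Q
    -- descend to the image of the étale neighbourhood
    let V : S.Opens := ⟨Set.range w, w.isOpenMap.isOpen_range⟩
    have hs : s ∈ V := ⟨π t, by
      rw [← Scheme.Hom.comp_apply]
      exact (ht.symm ▸ rfl : t ∈ (π ≫ w).base ⁻¹' {s})⟩
    let q : P ⟶ (V : Scheme.{u}) := IsOpenImmersion.lift V.ι w (by rw [Scheme.Opens.range_ι]; exact subset_rfl)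
    have hq : q ≫ V.ι = w := IsOpenImmersion.lift_fac _ _ _
    haveI : Etale q := by
      haveI : Etale (q ≫ V.ι) := by rw [hq]; exact hw
      exact Etale.of_comp q V.ι
    haveI : Surjective q := ⟨fun v => by
      obtain ⟨y, hy⟩ := v.2
      refine ⟨y, V.ι.isOpenEmbedding.injective ?_⟩
      rw [← Scheme.Hom.comp_apply, hq]; exact hy⟩
    haveI : QuasiCompact q := inferInstance
    exact ⟨V, hs, effAt_of_baseChange hg Df q hq H⟩
  choose V hV hVe using key
  obtain ⟨U₀, hU₀, ⟨e₀⟩⟩ := (SubmEtLib.isEffective_iff_openCover g hg Df V (top_le_iff.mp fun a _ =>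
    TopologicalSpace.Opens.mem_iSup.mpr ⟨a, hV a⟩)).2 hVe
  obtain ⟨U, str, π, hU, hπ⟩ := (effAt_iff Df (𝟙 S)).1 (effAt_of_effective Df (𝟙 S) ⟨U₀, hU₀, ⟨e₀⟩⟩)
  haveI := hU
  haveI : QuasiCompact ((_root_.Desc.SchDDFam.toSchDD g).obj Df).obj.hom := ‹QuasiCompact D.obj.hom›
  haveI : IsSeparated ((_root_.Desc.SchDDFam.toSchDD g).obj Df).obj.hom := ‹IsSeparated D.obj.hom›
  exact ⟨Over.mk str, hπ.quasiCompact, hπ.isSeparated hg, hU, iso_of_isQuot_id hπ⟩

end Groth.Agent.QFinEtDesc
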