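import Groth.Agent.SubmEtLib.Glue
import Groth.Agent.SchDesc.Pull

/-! Effectivity can be tested after refining a universally submersive covering. -/

set_option autoImplicit false
set_option linter.style.haveILetI false
set_option backward.isDefEq.respectTransparency false
set_option backward.isDefEq.respectTransparency.types false

universe u
open CategoryTheory CategoryTheory.Limits AlgebraicGeometry

noncomputable section

namespace Groth.Agent.QFinEtDesc

open Groth.Agent.SchDesc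

theorem univSubmersive_of_comp {T X S : Scheme.{u}} (h : T ⟶ X) (p : X ⟶ S)
    (hT : SGA1.UnivSubmersive (h ≫ p)) : SGA1.UnivSubmersive p := by
  intro X' S' i₁ i₂ p' hsq
  have h1 := (IsPullback.of_hasPullback h i₁).flip.paste_horiz hsq
  exact Topology.IsQuotientMap.of_comp (pullback.snd h i₁).continuous p'.continuous (hT _ _ _ h1)

theorem univSubmersive_fst {T X S : Scheme.{u}} (p : X ⟶ S) {g : T ⟶ S} (hg : SGA1.UnivSubmersive g) :
    SGA1.UnivSubmersive (pullback.fst p g) :=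
  MorphismProperty.pullback_fst (P := MorphismProperty.universally _) _ _ hg

/-- Morphisms to an étale scheme agreeing after a surjection are equal. -/
theorem hom_ext_of_surjective {R Z Y S : Scheme.{u}} (c : R ⟶ Z) [Surjective c] (q : Y ⟶ S) [Etale q]
    (u u' : Z ⟶ Y) (hq : u ≫ q = u' ≫ q) (he : c ≫ u = c ≫ u') : u = u' := by
  let d : Z ⟶ pullback q q := pullback.lift u u' hq
  haveI : IsOpenImmersion (pullback.diagonal q) := inferInstance
  have hr : Set.range d ⊆ Set.range (pullback.diagonal q) := by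
    rintro _ ⟨x, rfl⟩
    obtain ⟨x', rfl⟩ := c.surjective x
    refine ⟨(c ≫ u) x', ?_⟩
    have hd : c ≫ d = (c ≫ u) ≫ pullback.diagonal q := by
      refine pullback.hom_ext ?_ ?_ <;> simp [d, he]
    rw [← Scheme.Hom.comp_apply, ← Scheme.Hom.comp_apply, hd]
  let e := IsOpenImmersion.lift (pullback.diagonal q) d hr
  have hed : e ≫ pullback.diagonal q = d := IsOpenImmersion.lift_fac _ _ _
  have h1 : e = u := by simpa [d] using congrArg (· ≫ pullback.fst q q) hed
  have h2 : e = u' := by simpa [d] using congrArg (· ≫ pullback.snd q q) hed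
  rw [← h1, h2]

variable {X S T : Scheme.{u}} {p : X ⟶ S} {D : _root_.Desc.SchDD p}

/-- A quotient after refinement gives a quotient. -/
theorem quot_of_pull_refine (h : T ⟶ X) (hT : SGA1.UnivSubmersive (h ≫ p)) [Etale D.obj.hom]
    {wq : h ≫ p = (h ≫ p) ≫ 𝟙 S} (Q : Quot (pull D h wq) ⊤) [Etale Q.str] :
    ∃ Q' : Quot D ⊤, Etale Q'.str := by
  haveI : Surjective (h ≫ p) := SubmEtLib.surjective_of_univSubmersive hT
  let D' := pull D h wq
  let ε : D'.obj.left ⟶ D.obj.left := pullFst D h wq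
  have hε := isPullback_pull D h wq
  let π₀ : D'.obj.left ⟶ Q.U := (Scheme.topIso _).inv ≫ Q.π
  have htop : ∀ {R : Scheme.{u}} (r : R ⟶ D'.obj.left),
      (r ≫ (Scheme.topIso _).inv) ≫ (⊤ : D'.obj.left.Opens).ι = r := fun r => by
    rw [Category.assoc, ← Scheme.topIso_hom, Iso.inv_hom_id, Category.comp_id]
  have hinv' : ∀ {R : Scheme.{u}} (v : R ⟶ D'.obj.left) (x : R ⟶ T)
      (hx : v ≫ D'.obj.hom ≫ h ≫ p = x ≫ h ≫ p), move D' v x hx ≫ π₀ = v ≫ π₀ := fun v x hx => by
    have := Q.inv (v ≫ (Scheme.topIso _).inv) (move D' v x hx ≫ (Scheme.topIso _).inv) x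
      (by rw [htop]; exact hx) ((move_congr D' (htop v) _).trans (htop _).symm)
    simpa only [π₀, Category.assoc] using this.symm
  have hpb0 : IsPullback D'.obj.hom π₀ (h ≫ p) Q.str :=
    Q.isPullback.of_iso (Scheme.topIso _) (.refl _) (.refl _) (.refl _) (by simp [← Scheme.topIso_hom]; rfl)
      (by simp [π₀]) (by simp) (by simp)
  -- transport to the refinement
  have hcond : ∀ {R : Scheme.{u}} {y : R ⟶ D.obj.left} {t : R ⟶ T}, y ≫ D.obj.hom ≫ p = t ≫ h ≫ p →
      y ≫ D.obj.hom ≫ p = (t ≫ h) ≫ p := fun e => by rw [Category.assoc]; exact e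
  obtain ⟨tp, htp1, htp2⟩ :
      ∃ tp : ∀ {R : Scheme.{u}} (y : R ⟶ D.obj.left) (t : R ⟶ T), y ≫ D.obj.hom ≫ p = t ≫ h ≫ p → (R ⟶ D'.obj.left),
        (∀ {R : Scheme.{u}} (y : R ⟶ D.obj.left) (t : R ⟶ T) (e : y ≫ D.obj.hom ≫ p = t ≫ h ≫ p),
          tp y t e ≫ ε = move D y (t ≫ h) (hcond e)) ∧
        (∀ {R : Scheme.{u}} (y : R ⟶ D.obj.left) (t : R ⟶ T) (e : y ≫ D.obj.hom ≫ p = t ≫ h ≫ p),
          tp y t e ≫ D'.obj.hom = t) :=
    ⟨fun y t e => hε.lift (move D y (t ≫ h) (hcond e)) t (move_hom D _ _ _),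
      fun _ _ _ => hε.lift_fst _ _ _, fun _ _ _ => hε.lift_snd _ _ _⟩
  have htp_rel : ∀ {R : Scheme.{u}} (y y' : R ⟶ D.obj.left) (t t' : R ⟶ T) (e : y ≫ D.obj.hom ≫ p = t ≫ h ≫ p)
      (e' : y' ≫ D.obj.hom ≫ p = t' ≫ h ≫ p) (x : R ⟶ X) (hx : y ≫ D.obj.hom ≫ p = x ≫ p),
      move D y x hx = y' → tp y t e ≫ π₀ = tp y' t' e' ≫ π₀ := by
    intro R y y' t t' e e' x hx he
    have hc : tp y t e ≫ D'.obj.hom ≫ h ≫ p = t' ≫ h ≫ p := by
      rw [reassoc_of% htp2, ← e, ← e', ← he, ← Category.assoc (move D y x hx), move_hom, hx]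
    rw [← hinv' (tp y t e) t' hc]
    congr 1
    apply hε.hom_ext
    · rw [move_pull]
      have hc2 : move D y (t ≫ h) (hcond e) ≫ D.obj.hom ≫ p = (t' ≫ h) ≫ p := by
        rw [← Category.assoc (move D y (t ≫ h) (hcond e)), move_hom, ← hcond e, ← hcond e', ← he,
          ← Category.assoc (move D y x hx), move_hom, hx]
      refine (move_congr₂ (htp1 y t e) rfl (h' := hc2)).trans ?_
      rw [htp1, move_move D y (t ≫ h) (t' ≫ h) (hcond e) hc2 (by rw [hx, ← hcond e', ← he, ← Category.assoc (move D y x hx), move_hom])]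
      exact (move_move D y x (t' ≫ h) hx (by rw [he]; exact hcond e') _).symm.trans (move_congr D he _)
    · rw [move_hom, htp2]
  have hrefl : ∀ {R : Scheme.{u}} (y : R ⟶ D.obj.left) (t t' : R ⟶ T) (e : y ≫ D.obj.hom ≫ p = t ≫ h ≫ p)
      (e' : y ≫ D.obj.hom ≫ p = t' ≫ h ≫ p), tp y t e ≫ π₀ = tp y t' e' ≫ π₀ := fun y t t' e e' =>
    htp_rel y y t t' e e' (y ≫ D.obj.hom) (Category.assoc _ _ _).symm (move_self D _ _ _ rfl)
  have htp_comp : ∀ {R R' : Scheme.{u}} (k : R' ⟶ R) (y : R ⟶ D.obj.left) (t : R ⟶ T)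
      (e : y ≫ D.obj.hom ≫ p = t ≫ h ≫ p),
      k ≫ tp y t e = tp (k ≫ y) (k ≫ t) (by simp only [Category.assoc, e]) := by
    intro R R' k y t e
    apply hε.hom_ext
    · rw [Category.assoc, htp1, htp1, move_comp]
      exact move_congr₂ rfl (Category.assoc _ _ _).symm
    · rw [Category.assoc, htp2, htp2]
  -- the quotient map
  let r := pullback.fst (D.obj.hom ≫ p) (h ≫ p)
  let sn := pullback.snd (D.obj.hom ≫ p) (h ≫ p)
  obtain ⟨π, ⟨hπs, hπr⟩, -⟩ := SubmEtLib.exists_unique_desc (h ≫ p) hT (D.obj.hom ≫ p) Q.str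
    (tp r sn pullback.condition ≫ π₀)
    (by rw [Category.assoc, ← hpb0.w, reassoc_of% htp2])
    (fun {R} a b hab => by
      rw [← Category.assoc a, ← Category.assoc b, htp_comp, htp_comp]
      exact htp_rel _ _ _ _ _ _ ((a ≫ r) ≫ D.obj.hom) (Category.assoc _ _ _).symm
        ((move_self D _ _ _ rfl).trans hab))
  have hfact : ∀ {R : Scheme.{u}} (y : R ⟶ D.obj.left) (t : R ⟶ T) (e : y ≫ D.obj.hom ≫ p = t ≫ h ≫ p),
      y ≫ π = tp y t e ≫ π₀ := by
    intro R y t e
    have := congrArg (pullback.lift y t e ≫ ·) hπr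
    simp only [← Category.assoc, htp_comp, pullback.lift_fst] at this
    rw [← this]
    congr 1
    apply hε.hom_ext
    · rw [htp1, htp1]
      exact move_congr₂ (pullback.lift_fst _ _ _) (congrArg (· ≫ h) (pullback.lift_snd _ _ _))
    · rw [htp2, htp2]
      exact pullback.lift_snd _ _ _
  have hεπ : ε ≫ π = π₀ := by
    rw [hfact ε D'.obj.hom (hε.w_assoc p)]
    have : tp ε D'.obj.hom (hε.w_assoc p) = 𝟙 _ := by
      apply hε.hom_ext
      · rw [htp1, Category.id_comp]; exact move_self D _ _ _ hε.w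
      · rw [htp2, Category.id_comp]
    rw [this, Category.id_comp]
  have hinv : ∀ {R : Scheme.{u}} (v : R ⟶ D.obj.left) (x : R ⟶ X) (hx : v ≫ D.obj.hom ≫ p = x ≫ p),
      move D v x hx ≫ π = v ≫ π := by
    intro R v x hx
    refine hom_ext_of_surjective (pullback.fst (v ≫ D.obj.hom ≫ p) (h ≫ p)) Q.str _ _ ?_ ?_
    · rw [Category.assoc, Category.assoc, hπs, ← Category.assoc (move D v x hx), move_hom, hx]
    · rw [← Category.assoc (pullback.fst _ _) (move D v x hx) π, ← Category.assoc (pullback.fst _ _) v π,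
        hfact _ (pullback.snd _ _) (by
          exact ((Category.assoc _ _ _).trans (congrArg (_ ≫ ·) (by
            rw [← Category.assoc (move D v x hx), move_hom]; exact hx.symm))).trans pullback.condition),
        hfact (pullback.fst (v ≫ D.obj.hom ≫ p) (h ≫ p) ≫ v) (pullback.snd _ _)
          ((Category.assoc _ _ _).trans pullback.condition)]
      refine (htp_rel _ _ _ _ _ _ (pullback.fst _ _ ≫ x) (by simp only [Category.assoc, hx]) ?_).symm
      exact (move_comp D _ v x hx).symm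
  -- the square
  let u : D.obj.left ⟶ pullback p Q.str := pullback.lift D.obj.hom π hπs.symm
  let g' := pullback.fst p (h ≫ p)
  have hg' : SGA1.UnivSubmersive g' := univSubmersive_fst p hT
  haveI : Surjective g' := SubmEtLib.surjective_of_univSubmersive hg'
  haveI hmono : Mono u := ⟨fun {R} y₁ y₂ e => by
    have e1 : y₁ ≫ D.obj.hom = y₂ ≫ D.obj.hom := by simpa [u] using congrArg (· ≫ pullback.fst p Q.str) e
    have e2 : y₁ ≫ π = y₂ ≫ π := by simpa [u] using congrArg (· ≫ pullback.snd p Q.str) e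
    let c := pullback.fst (y₁ ≫ D.obj.hom) g'
    let t := pullback.snd (y₁ ≫ D.obj.hom) g' ≫ pullback.snd p (h ≫ p)
    refine hom_ext_of_surjective c D.obj.hom _ _ e1 ?_
    have hc1 : (c ≫ y₁) ≫ D.obj.hom ≫ p = t ≫ h ≫ p := by
      have := congrArg (· ≫ p) (pullback.condition (f := y₁ ≫ D.obj.hom) (g := g'))
      simp only [c, t, g', Category.assoc] at this ⊢
      rw [this, pullback.condition]
    have hc2 : (c ≫ y₂) ≫ D.obj.hom ≫ p = t ≫ h ≫ p := by
      rw [← hc1]; simp only [Category.assoc, reassoc_of% e1]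
    have h3 : tp _ _ hc1 = tp _ _ hc2 := by
      apply hpb0.hom_ext
      · rw [htp2, htp2]
      · rw [← hfact _ _ hc1, ← hfact _ _ hc2, Category.assoc, Category.assoc, e2]
    have h4 := congrArg (· ≫ ε) h3
    simp only [htp1] at h4
    have hb : ∀ (y : _ ⟶ D.obj.left) (hc : y ≫ D.obj.hom ≫ p = t ≫ h ≫ p),
        move D (move D y (t ≫ h) (hcond hc)) (y ≫ D.obj.hom) (by
          rw [← Category.assoc (move D _ _ _), move_hom, ← hcond hc, Category.assoc]) = y := fun y hc => by
      rw [move_move D y (t ≫ h) (y ≫ D.obj.hom) _ _ (Category.assoc _ _ _).symm, move_self D _ _ _ rfl]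
    rw [← hb _ hc1, ← hb _ hc2]
    exact move_congr₂ h4 (by simp only [Category.assoc, e1])⟩
  let R₀ := pullback (pullback.fst p Q.str) g'
  let cU := pullback.fst (pullback.fst p Q.str) g'
  let t₀ : R₀ ⟶ T := pullback.snd (pullback.fst p Q.str) g' ≫ pullback.snd p (h ≫ p)
  have ht₀ : (cU ≫ pullback.fst p Q.str) ≫ p = t₀ ≫ h ≫ p := by
    simp only [cU, t₀, g', Category.assoc, pullback.condition_assoc]
    rw [pullback.condition]
  let a₀ : R₀ ⟶ D'.obj.left := hpb0.lift t₀ (cU ≫ pullback.snd p Q.str) (by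
    rw [← ht₀, Category.assoc, Category.assoc, pullback.condition])
  have ha₀ : a₀ ≫ ε ≫ D.obj.hom ≫ p = (cU ≫ pullback.fst p Q.str) ≫ p := by
    rw [ht₀, hε.w_assoc, ← Category.assoc, hpb0.lift_fst]
  let s₀ : R₀ ⟶ D.obj.left := move D (a₀ ≫ ε) (cU ≫ pullback.fst p Q.str) (by rw [Category.assoc]; exact ha₀)
  obtain ⟨s, ⟨hs1, hs2⟩, -⟩ := SubmEtLib.exists_unique_desc g' hg' (pullback.fst p Q.str) D.obj.hom s₀
    (by rw [move_hom]; exact pullback.condition)
    (fun {R} a b hab => by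
      have hc : (a ≫ a₀) ≫ D'.obj.hom ≫ h ≫ p = (b ≫ t₀) ≫ h ≫ p := by
        simp only [a₀, Category.assoc, hpb0.lift_fst_assoc, ← ht₀, cU, reassoc_of% hab]
      have e : move D' (a ≫ a₀) (b ≫ t₀) hc = b ≫ a₀ := by
        apply hpb0.hom_ext
        · rw [move_hom, Category.assoc, hpb0.lift_fst]
        · rw [hinv', Category.assoc, Category.assoc, hpb0.lift_snd]
          exact (reassoc_of% hab) _
      have e' := congrArg (· ≫ ε) e
      rw [move_pull] at e'
      simp only [s₀, move_comp]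
      have hb : (b ≫ a₀ ≫ ε) ≫ D.obj.hom ≫ p = (b ≫ cU ≫ pullback.fst p Q.str) ≫ p := by
        simp only [Category.assoc, ha₀]
      have hm : move D ((a ≫ a₀) ≫ ε) ((b ≫ t₀) ≫ h) (by
            simp only [Category.assoc]; rw [hε.w_assoc]; simpa only [Category.assoc] using hc) ≫ D.obj.hom ≫ p =
          (b ≫ cU ≫ pullback.fst p Q.str) ≫ p := by
        rw [e', Category.assoc, Category.assoc]
        simpa only [Category.assoc] using hb
      have hd : ((a ≫ a₀) ≫ ε) ≫ D.obj.hom ≫ p = (b ≫ cU ≫ pullback.fst p Q.str) ≫ p := by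
        simp only [Category.assoc, ha₀, cU, reassoc_of% hab]
      refine Eq.trans ?_ (move_congr₂ (e'.trans (Category.assoc _ _ _)) rfl (h := hm) (h' := hb))
      rw [move_move D _ _ _ _ hm hd]
      exact move_congr₂ (Category.assoc _ _ _).symm ((reassoc_of% hab) _))
  haveI : Surjective cU := MorphismProperty.pullback_fst _ _ ‹Surjective g'›
  have hsu : s ≫ u = 𝟙 _ := by
    refine pullback.hom_ext ?_ ?_
    · rw [Category.id_comp, Category.assoc, pullback.lift_fst, hs1]
    · rw [Category.id_comp, Category.assoc, pullback.lift_snd]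
      refine hom_ext_of_surjective cU Q.str _ _ ?_ ?_
      · rw [Category.assoc, hπs, ← Category.assoc, hs1, pullback.condition]
      · rw [← Category.assoc, ← hs2, hinv, Category.assoc, hεπ, hpb0.lift_snd]
  haveI : IsIso u := ⟨s, by rw [← cancel_mono u, Category.assoc, hsu, Category.comp_id, Category.id_comp], hsu⟩
  refine ⟨⟨Q.U, Q.str, (⊤ : D.obj.left.Opens).ι ≫ π, ?_, stable_top, fun t t' x hx e => ?_⟩, inferInstance⟩
  · refine (IsPullback.of_hasPullback p Q.str).of_iso ((asIso u).symm ≪≫ (Scheme.topIso _).symm) (.refl _) (.refl _)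
      (.refl _) ?_ ?_ (by simp) (by simp)
    · simp only [Iso.refl_hom, Category.comp_id, Iso.trans_hom, Iso.symm_hom, asIso_inv, Category.assoc,
        ← Scheme.topIso_hom, Iso.inv_hom_id_assoc, IsIso.eq_inv_comp]
      exact pullback.lift_fst _ _ _
    · simp only [Iso.refl_hom, Category.comp_id, Iso.trans_hom, Iso.symm_hom, asIso_inv, Category.assoc,
        ← Scheme.topIso_hom, Iso.inv_hom_id_assoc, IsIso.eq_inv_comp]
      exact pullback.lift_snd _ _ _
  · rw [← Category.assoc, ← Category.assoc, ← e, hinv]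

end Groth.Agent.QFinEtDesc
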